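import Cfsg.Agent.Lib.Classical.GeoThree.SU.Stab
import Cfsg.Agent.Lib.Classical.UFrameMax.Dihedral
import Cfsg.Agent.Lib.Classical.UFrameMax.OddCoord

/-!
# Orthonormal frames of three-dimensional unitary spaces
-/

set_option autoImplicit false
set_option linter.unusedSectionVars false
set_option linter.unusedSimpArgs false

open Module
open CfsgLib.Classical CfsgLib.Classical.UFrameMax

namespace CfsgLib.Classical.GeoThree.SU

variable {F : Type*} [Field F] [DecidableEq F] [Fintype F] {V : Type*} [AddCommGroup V] [Module F V]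
  [FiniteDimensional F V] {σ : F →+* F} {B : V →ₛₗ[σ] V →ₗ[F] F}

/-- An overgroup of the monomial group of a frame in dimension three, inside the special group. -/
structure TSetting (B : V →ₛₗ[σ] V →ₗ[F] F) (e : Basis (Fin 3) F V) (M : Subgroup (isomGroup B)) : Prop where
  herm : IsHermitian B
  sep : B.SeparatingRight
  on : ∀ i j, B (e i) (e j) = if i = j then 1 else 0
  big : BigFixed σ
  le : M ≤ sIsom B
  mem : ∀ g, idet B g = 1 → Mono e g → g ∈ M

theorem exists_other (i j : Fin 3) : ∃ k, k ≠ i ∧ k ≠ j := by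
  revert i j; decide

theorem cases_three {i j k : Fin 3} (hij : i ≠ j) (hik : i ≠ k) (hjk : j ≠ k) (a : Fin 3) :
    a = i ∨ a = j ∨ a = k := by
  revert i j k a; decide

theorem univ_three {i j k : Fin 3} (hij : i ≠ j) (hik : i ≠ k) (hjk : j ≠ k) :
    (Finset.univ : Finset (Fin 3)) = {i, j, k} := by
  ext a
  simpa using cases_three hij hik hjk a

theorem sum_three {i j k : Fin 3} (hij : i ≠ j) (hik : i ≠ k) (hjk : j ≠ k) {A : Type*} [AddCommMonoid A]
    (f : Fin 3 → A) : ∑ a, f a = f i + f j + f k := by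
  rw [univ_three hij hik hjk, Finset.sum_insert (by simp [hij, hik]), Finset.sum_pair hjk, add_assoc]

theorem prod_three {i j k : Fin 3} (hij : i ≠ j) (hik : i ≠ k) (hjk : j ≠ k) {A : Type*} [CommMonoid A]
    (f : Fin 3 → A) : ∏ a, f a = f i * f j * f k := by
  rw [univ_three hij hik hjk, Finset.prod_insert (by simp [hij, hik]), Finset.prod_pair hjk, mul_assoc]

namespace TSetting

variable {e : Basis (Fin 3) F V} {M : Subgroup (isomGroup B)} (S : TSetting B e M)
include S

theorem conj : IsConjugation σ := S.herm.conj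

theorem sigma_eq_zero {a : F} (ha : σ a = 0) : a = 0 := by rw [← S.conj.invol a, ha, map_zero]

theorem norm_eq_zero {a : F} (ha : σ a * a = 0) : a = 0 := (mul_eq_zero.1 ha).elim S.sigma_eq_zero id

theorem norm_sigma {a : F} (ha : a * σ a = 1) : σ a * σ (σ a) = 1 := by rw [S.conj.invol, mul_comm]; exact ha

theorem coord (i : Fin 3) (x : V) : B (e i) x = e.repr x i := by
  conv_lhs => rw [← e.sum_repr x]
  rw [map_sum, Finset.sum_eq_single i (fun j _ hj => by simp [S.on, Ne.symm hj]) (by simp)]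
  simp [S.on]

theorem form (x y : V) : B x y = ∑ i, σ (e.repr x i) * e.repr y i := by
  conv_lhs => rw [← e.sum_repr x]
  simp only [map_sum, LinearMap.sum_apply, map_smulₛₗ, LinearMap.smul_apply, smul_eq_mul, S.coord]

theorem norm_one {g : isomGroup B} {i j : Fin 3} {l : F} (hl : g.1 (e i) = l • e j) : l * σ l = 1 := by
  have h := isomGroup_apply g (e i) (e i)
  rw [hl, S.herm.smul_self, S.on, S.on, if_pos rfl, if_pos rfl, mul_one] at h
  exact h

theorem exists_diag (d : Fin 3 → F) (hd : ∀ i, d i * σ (d i) = 1) :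
    ∃ g : isomGroup B, (∀ i, g.1 (e i) = d i • e i) ∧ idet B g = ∏ i, d i := by
  suffices H : ∀ T : Finset (Fin 3), ∃ g : isomGroup B,
      (∀ i, g.1 (e i) = (if i ∈ T then d i else 1) • e i) ∧ idet B g = ∏ i ∈ T, d i by
    obtain ⟨g, hg, hgd⟩ := H Finset.univ
    exact ⟨g, fun i => by simpa using hg i, hgd⟩
  intro T
  induction T using Finset.induction_on with
  | empty => exact ⟨1, fun i => by simp, by simp⟩
  | @insert j T hj ih =>
    obtain ⟨g, hg, hgd⟩ := ih
    obtain ⟨r, hr, hrd⟩ := S.herm.exists_qr S.sep (z := e j) (by simp [S.on]) (hd j)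
    refine ⟨r * g, fun i => ?_, by rw [map_mul, hrd, hgd, Finset.prod_insert hj]⟩
    change r.1 (g.1 (e i)) = _
    rw [hg, map_smul, hr, S.on]
    rcases eq_or_ne i j with rfl | hij
    · simp [hj, S.on]; module
    · simp [hij, S.on, Ne.symm hij]

/-- Monomial elements of determinant one, with one free phase. -/
theorem exists_mono (π : Equiv.Perm (Fin 3)) (d : Fin 3 → F) (hd : ∀ i, d i * σ (d i) = 1) (j₀ : Fin 3) :
    ∃ g ∈ M, ∃ d' : Fin 3 → F, (∀ i, i ≠ j₀ → d' i = d i) ∧ ∀ i, g.1 (e i) = d' i • e (π i) := by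
  classical
  obtain ⟨p, hp⟩ := S.herm.witt_family S.sep (a := fun i => e i) (b := fun i => e (π i)) e.linearIndependent
    (e.linearIndependent.comp _ π.injective) fun i j => by simp [S.on, π.injective.eq_iff]
  let δ := idet B p * ∏ i ∈ Finset.univ.erase j₀, d i
  have hδ : δ * σ δ = 1 := by
    have : (∏ i ∈ Finset.univ.erase j₀, d i) * σ (∏ i ∈ Finset.univ.erase j₀, d i) = 1 := by
      rw [map_prod, ← Finset.prod_mul_distrib]
      exact Finset.prod_eq_one fun i _ => hd i
    simp only [δ, map_mul]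
    linear_combination (idet B p * σ (idet B p)) * this + S.herm.idet_norm S.sep p
  have hδ0 : δ ≠ 0 := norm_ne_zero_of hδ
  let d' := Function.update d j₀ δ⁻¹
  obtain ⟨g, hg, hgd⟩ := S.exists_diag d' fun i => by
    rcases eq_or_ne i j₀ with rfl | hi
    · simp only [d', Function.update_self, map_inv₀, ← mul_inv, hδ, inv_one]
    · simp only [d', Function.update_of_ne hi]; exact hd i
  have hpg : ∀ i, (p * g).1 (e i) = d' i • e (π i) := fun i => by
    change p.1 (g.1 (e i)) = _
    rw [hg, map_smul, hp]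
  refine ⟨p * g, S.mem _ ?_ fun i => ⟨π i, d' i, hpg i⟩, d', fun i hi => Function.update_of_ne hi _ _, hpg⟩
  rw [map_mul, hgd, ← Finset.mul_prod_erase _ _ (Finset.mem_univ j₀),
    Finset.prod_congr rfl fun i hi => Function.update_of_ne (Finset.mem_erase.1 hi).1 δ⁻¹ d]
  simp only [d', Function.update_self]
  have : idet B p ≠ 0 := idet_ne_zero S.herm S.sep p
  calc idet B p * (δ⁻¹ * ∏ i ∈ Finset.univ.erase j₀, d i) = δ * δ⁻¹ := by ring
    _ = 1 := mul_inv_cancel₀ hδ0

theorem nondeg_cspan (T : Finset (Fin 3)) : NondegOn B (cspan e T) := nondegOn_iff.2 fun x hx hx' => by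
  refine e.repr.injective (Finsupp.ext fun i => ?_)
  by_cases hi : i ∈ T
  · rw [← S.coord, hx' _ (basis_mem_cspan hi)]; simp
  · rw [supp_subset_iff.1 (mem_cspan.1 hx) i hi]; simp

theorem mem_perp_cspan {T : Finset (Fin 3)} {x : V} (h : ∀ i ∈ T, e.repr x i = 0) : x ∈ perp B (cspan e T) :=
  mem_perp.2 fun w hw => by
    rw [S.form]
    refine Finset.sum_eq_zero fun i _ => ?_
    by_cases hi : i ∈ T
    · rw [h i hi, mul_zero]
    · rw [supp_subset_iff.1 (mem_cspan.1 hw) i hi, map_zero, zero_mul]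

theorem mono_data {g : isomGroup B} (hg : Mono e g) :
    ∃ (π : Equiv.Perm (Fin 3)) (d : Fin 3 → F), (∀ i, d i * σ (d i) = 1) ∧ ∀ i, g.1 (e i) = d i • e (π i) := by
  choose f d hf using hg
  have hd : ∀ i, d i * σ (d i) = 1 := fun i => S.norm_one (hf i)
  have hinj : Function.Injective f := fun a b hab => by
    by_contra hne
    have h := isomGroup_apply g (e a) (e b)
    rw [hf, hf, hab, S.on a b, if_neg hne] at h
    have h1 : σ (d a) * d b = 0 := by simpa [map_smulₛₗ, S.on, mul_comm] using h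
    exact mul_ne_zero (fun h' => norm_ne_zero_of (hd a) (S.sigma_eq_zero h')) (norm_ne_zero_of (hd b)) h1
  exact ⟨Equiv.ofBijective f (Finite.injective_iff_bijective.1 hinj), d, hd, hf⟩

theorem mono_inv {g : isomGroup B} (hg : Mono e g) : Mono e g⁻¹ := fun k => by
  obtain ⟨π, d, hd, hπ⟩ := S.mono_data hg
  refine ⟨π.symm k, (d (π.symm k))⁻¹, ?_⟩
  change g.1.symm (e k) = _
  rw [LinearEquiv.symm_apply_eq, map_smul, hπ, smul_smul, inv_mul_cancel₀ (norm_ne_zero_of (hd _)), one_smul,
    Equiv.apply_symm_apply]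

theorem form_three {i j k : Fin 3} (hij : i ≠ j) (hik : i ≠ k) (hjk : j ≠ k) (x y : V) :
    B x y = σ (e.repr x i) * e.repr y i + σ (e.repr x j) * e.repr y j + σ (e.repr x k) * e.repr y k := by
  rw [S.form, sum_three hij hik hjk]

theorem coord' (i : Fin 3) (x : V) : B x (e i) = σ (e.repr x i) := by rw [← S.herm.symm (e i) x, S.coord]

theorem norm_fixed (x : V) (i : Fin 3) : σ (σ (e.repr x i) * e.repr x i) = σ (e.repr x i) * e.repr x i := by
  rw [map_mul, S.conj.invol, mul_comm]

theorem idet_eq_one {g : isomGroup B} (hg : g ∈ M) : idet B g = 1 := MonoidHom.mem_ker.1 (S.le hg)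

theorem isom_ext {g g' : isomGroup B} (h : ∀ a, g.1 (e a) = g'.1 (e a)) : g = g' :=
  Subtype.ext (LinearEquiv.toLinearMap_injective (e.ext h))

theorem diag_det {g : isomGroup B} {d : Fin 3 → F} (hg : ∀ a, g.1 (e a) = d a • e a) : idet B g = ∏ a, d a := by
  obtain ⟨g', hg', hd⟩ := S.exists_diag d fun a => S.norm_one (hg a)
  rw [S.isom_ext (g := g) (g' := g') fun a => (hg a).trans (hg' a).symm, hd]

/-- Diagonal elements of determinant one lie in `M`. -/
theorem exists_diag_mem {i j k : Fin 3} (hij : i ≠ j) (hik : i ≠ k) (hjk : j ≠ k) {a b c : F} (ha : a * σ a = 1)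
    (hb : b * σ b = 1) (hc : c * σ c = 1) (habc : a * b * c = 1) :
    ∃ g ∈ M, Mono e g ∧ g.1 (e i) = a • e i ∧ g.1 (e j) = b • e j ∧ g.1 (e k) = c • e k := by
  let d : Fin 3 → F := fun x => if x = i then a else if x = j then b else c
  obtain ⟨g, hg, hd⟩ := S.exists_diag d fun x => by
    simp only [d]; split_ifs <;> assumption
  have hm : Mono e g := fun x => ⟨x, d x, hg x⟩
  refine ⟨g, S.mem g ?_ hm, hm, ?_, ?_, ?_⟩
  · rw [hd, prod_three hij hik hjk]
    simpa [d, hij.symm, hik.symm, hjk.symm] using habc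
  · simpa [d] using hg i
  · simpa [d, hij.symm] using hg j
  · simpa [d, hik.symm, hjk.symm] using hg k

theorem eq_of_coords {i j k : Fin 3} (hij : i ≠ j) (hik : i ≠ k) (hjk : j ≠ k) (x : V) :
    x = e.repr x i • e i + e.repr x j • e j + e.repr x k • e k := by
  conv_lhs => rw [← e.sum_repr x, sum_three hij hik hjk]

/-- An element with a frame vector in a frame line is monomial, if there is no other kind fixing a line. -/
theorem mono_of_supp_one (hL : ∀ h ∈ M, ∀ i, ∀ l : F, h.1 (e i) = l • e i → Mono e h) {g : isomGroup B}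
    (hg : g ∈ M) {i j : Fin 3} {l : F} (hl : g.1 (e i) = l • e j) : Mono e g := by
  obtain ⟨k, hk⟩ := exists_other i j
  obtain ⟨m, hm, d, hd, hme⟩ := S.exists_mono (Equiv.swap i j) (fun _ => 1) (fun _ => by simp) k
  have h1 : (m * g).1 (e i) = (l * d j) • e i := by
    change m.1 (g.1 (e i)) = _
    rw [hl, map_smul, hme, Equiv.swap_apply_right, smul_smul]
  have hmm : Mono e m := fun a => ⟨_, _, hme a⟩
  have h3 := FSetting.mono_mul (S.mono_inv hmm) (hL _ (M.mul_mem hm hg) i _ h1)
  rwa [inv_mul_cancel_left] at h3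

theorem mono_of_inv {g : isomGroup B} (h : Mono e g⁻¹) : Mono e g := by simpa using S.mono_inv h

end TSetting

end CfsgLib.Classical.GeoThree.SU
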