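import Cfsg.Agent.Lib.Classical.GeoThree.SU.Frame.Odd

/-!
# Overgroups of the monomial group in characteristic two

The centres of the transvections in the monomial group have images whose coordinate lengths would have
inverses in too small a set.
-/

set_option autoImplicit false
set_option linter.unusedSectionVars false
set_option linter.unusedSimpArgs false

open Module
open CfsgLib.Classical CfsgLib.Classical.UFrameMax

namespace CfsgLib.Classical.GeoThree.SU

variable {F : Type*} [Field F] [DecidableEq F] [Fintype F] {V : Type*} [AddCommGroup V] [Module F V]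
  [FiniteDimensional F V] {σ : F →+* F} {B : V →ₛₗ[σ] V →ₗ[F] F}

/-- A centre of a transvection of coefficient one in `M`. -/
def Cen (M : Subgroup (isomGroup B)) (Y : V) : Prop :=
  B Y Y = 0 ∧ ∃ t ∈ M, ∀ x, t.1 x = x + B Y x • Y

theorem Cen.map {M : Subgroup (isomGroup B)} {Y : V} (h : Cen M Y) {g : isomGroup B} (hg : g ∈ M) :
    Cen M (g.1 Y) := by
  obtain ⟨h0, t, ht, htx⟩ := h
  refine ⟨by rw [isomGroup_apply, h0], g * t * g⁻¹, M.mul_mem (M.mul_mem hg ht) (M.inv_mem hg), fun x => ?_⟩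
  obtain ⟨y, rfl⟩ := g.1.surjective x
  change g.1 (t.1 (g.1.symm (g.1 y))) = _
  rw [LinearEquiv.symm_apply_apply, htx, map_add, map_smul, isomGroup_apply]

namespace TSetting

variable {e : Basis (Fin 3) F V} {M : Subgroup (isomGroup B)} (S : TSetting B e M)
include S

theorem cen_pair (h2 : (2 : F) = 0) {a b c : Fin 3} (hab : a ≠ b) (hac : a ≠ c) (hbc : b ≠ c) {θ : F}
    (hθ : θ * σ θ = 1) : Cen M (e a + θ • e b) := by
  obtain ⟨w, hw, -, -, -, -, hwx⟩ := S.exists_swap_inv hab hac hbc hθ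
  refine ⟨?_, w, hw, fun x => ?_⟩
  · rw [S.form_three hab hac hbc]
    simp [S.repr_basis, hab, hab.symm, hac, hbc]
    linear_combination hθ + h2
  · rw [hwx, sub_eq_add_neg, show -x = x by
      rw [← one_smul F x, ← neg_smul]; congr 1; linear_combination -h2, add_comm]

variable (hL : ∀ h ∈ M, ∀ i, ∀ l : F, h.1 (e i) = l • e i → Mono e h)
  (h6 : ∃ l : F, l * σ l = 1 ∧ l ^ 6 ≠ 1)
include hL h6

/-- A column of a non-monomial element orthogonal to a monomial centre has coordinates of length one. -/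
theorem lengths_of_perp (h2 : (2 : F) = 0) {g : isomGroup B} (hg : g ∈ M) (hgm : ¬ Mono e g) (a : Fin 3)
    {i j k : Fin 3} (hij : i ≠ j) (hik : i ≠ k) (hjk : j ≠ k) {θ : F} (hθ : θ * σ θ = 1)
    (hperp : e.repr (g.1 (e a)) i + σ θ * e.repr (g.1 (e a)) j = 0) (x : Fin 3) :
    σ (e.repr (g.1 (e a)) x) * e.repr (g.1 (e a)) x = 1 := by
  set z := g.1 (e a) with hz
  set P := e i + θ • e j with hP
  set N := σ (e.repr z i) * e.repr z i with hN
  have hN0 : N ≠ 0 := fun e' => S.no_zero hL h6 hg hgm a i (S.norm_eq_zero e')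
  have hzj : e.repr z j = θ * e.repr z i := by
    linear_combination θ * hperp - e.repr z j * hθ - (θ * e.repr z i) * h2
  have hzz : B z z = 1 := by rw [hz, isomGroup_apply, S.on, if_pos rfl]
  rw [S.form_three hij hik hjk, hzj, map_mul] at hzz
  have hk : σ (e.repr z k) * e.repr z k = 1 := by
    linear_combination hzz - (σ (e.repr z i) * e.repr z i) * hθ - (σ (e.repr z i) * e.repr z i) * h2
  suffices hN1 : N = 1 by
    rcases cases_three hij hik hjk x with rfl | rfl | rfl
    · exact hN1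
    · rw [hzj, map_mul]; linear_combination (θ * σ θ) * hN1 + hθ
    · exact hk
  -- scale
  set u := σ (e.repr z k) with hu
  set z' := u • z with hz'
  set b := u * e.repr z i with hb
  have hNb : σ b * b = N := by
    rw [hb, hN, map_mul, hu, S.conj.invol]; linear_combination (σ (e.repr z i) * e.repr z i) * hk
  have hz'e : z' = e k + b • P := by
    rw [hz', hb, hP]
    conv_lhs => rw [S.eq_of_coords hij hik hjk z, hzj]
    rw [smul_add, smul_add, smul_smul, smul_smul, smul_smul, hk, one_smul]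
    module
  have hPk : B P (e k) = 0 := by
    rw [S.coord']; simp [hP, S.repr_basis, hik.symm, hjk.symm, Finsupp.single_apply, hik, hjk]
  have hPP : B P P = 0 := (S.cen_pair h2 hij hik hjk hθ).1
  have hBk : ∀ v, B z' v = e.repr v k + σ b * B P v := fun v => by
    rw [hz'e, map_add, map_smulₛₗ, LinearMap.add_apply, LinearMap.smul_apply, smul_eq_mul, S.coord]
  have hPrep : e.repr P k = 0 := by simp [hP, S.repr_basis, hik.symm, hjk.symm, Finsupp.single_apply, hik, hjk]
  clear_value b P
  -- the root elements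
  have hroot : ∀ l : F, l * σ l = 1 → ∃ α ∈ M, ∀ v, α.1 v =
      v + (-(σ (b * (1 - l ^ 3))) * B P v) • e k +
        (b * (1 - l ^ 3) * e.repr v k + (σ l ^ 3 - 1) * N * B P v) • P := by
    intro l hl
    obtain ⟨D, hDM, hD⟩ := S.exists_scalar_qr a hl
    obtain ⟨E, hEM, hE⟩ := S.exists_scalar_qr k (S.norm_sigma hl)
    refine ⟨g * D * g⁻¹ * E, M.mul_mem (M.mul_mem (M.mul_mem hg hDM) (M.inv_mem hg)) hEM, fun v => ?_⟩
    have hC : ∀ w, (g * D * g⁻¹).1 w =
        l • w + ((σ l * σ l - l) * (e.repr w k + σ b * B P w)) • (e k + b • P) := fun w => by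
      rw [S.conj_scalar_qr hD, ← hz, ← hBk, ← hz'e, hz', map_smulₛₗ, LinearMap.smul_apply, smul_eq_mul,
        smul_smul, hu, S.conj.invol]
      congr 2
      linear_combination (-((σ l * σ l - l) * B z w)) * hk
    change (g * D * g⁻¹).1 (E.1 v) = _
    rw [hC, hE, S.conj.invol]
    simp only [map_add, map_smul, smul_eq_mul, hPk, S.repr_basis, if_pos, mul_zero, mul_one, add_zero,
      Finsupp.add_apply, Finsupp.smul_apply, map_mul, map_sub, map_one, map_pow, ← hNb]
    match_scalars <;> first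
      | linear_combination hl
      | linear_combination (l * σ l * e.repr v k - σ b * B P v) * hl
      | linear_combination ((l * σ l + 1) * b * e.repr v k - σ b * b * B P v) * hl

  -- the commutators
  have hcomm : ∀ l : F, l * σ l = 1 → l ^ 6 ≠ 1 → N * ((l ^ 3 + σ l ^ 3) * (l ^ 3 + σ l ^ 3)) = 1 := by
    intro l hl hl6
    obtain ⟨α, hα, hαv⟩ := hroot l hl
    obtain ⟨β, hβ, hβv⟩ := hroot (σ l) (S.norm_sigma hl)
    rw [S.conj.invol] at hβv
    set τ := l ^ 3 + σ l ^ 3 with hτ
    have hτ0 : τ ≠ 0 := fun e0 => hl6 (by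
      have h1 : l ^ 3 * σ l ^ 3 = 1 := by rw [← mul_pow, hl, one_pow]
      linear_combination (l ^ 3) * e0 - h1 - h2 - (l ^ 3) * hτ)
    set c := N * (τ * τ) with hc
    obtain ⟨t, ht⟩ := S.herm.exists_uTv S.sep (c := c) hPP (by
      simp only [hc, hτ, hN, map_mul, map_add, map_pow, S.conj.invol]
      linear_combination (σ (e.repr z i) * e.repr z i * ((l ^ 3 + σ l ^ 3) * (l ^ 3 + σ l ^ 3))) * h2)
    have htM : t ∈ M := by
      have hab : α * β = t * (β * α) := Subtype.ext (LinearEquiv.ext fun v => by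
        change α.1 (β.1 v) = t.1 (β.1 (α.1 v))
        rw [ht.2.2]
        simp only [hαv, hβv, map_add, map_smul, map_mul, map_sub, map_one, map_pow, S.conj.invol, hPP, hPk, hPrep,
          S.repr_basis, Finsupp.add_apply, Finsupp.smul_apply, smul_eq_mul, hc, hτ, ← hNb]
        simp only [if_pos, mul_zero, add_zero, zero_add, mul_one]
        match_scalars
        · ring
        · ring
        · linear_combination (σ b * b * B P v * (l ^ 3 - σ l ^ 3 - l ^ 6 - l ^ 3 * σ l ^ 3)) * h2)
      have := M.mul_mem (M.mul_mem hα hβ) (M.inv_mem (M.mul_mem hβ hα))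
      rwa [hab, mul_inv_cancel_right] at this
    have htk : t.1 (e k) = (1 : F) • e k := by
      rw [ht.2.2, hPk, mul_zero, zero_smul, add_zero, one_smul]
    obtain ⟨y, l', hy⟩ := hL t htM k 1 htk i
    rw [ht.2.2] at hy
    have hPi : B P (e i) = 1 := by
      rw [S.coord']; simp [hP, S.repr_basis, hij, Finsupp.single_apply, hij.symm]
    rw [hPi, mul_one] at hy
    have hi' := congrArg (fun v => e.repr v i) hy
    have hj' := congrArg (fun v => e.repr v j) hy
    simp [hP, S.repr_basis, hij, hij.symm, Finsupp.single_apply] at hi' hj'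
    by_cases hyi : y = i
    · subst hyi
      simp [hij, hij.symm] at hj'
      exfalso
      rcases hj' with h | h
      · exact mul_ne_zero hN0 (mul_ne_zero hτ0 hτ0) h
      · exact norm_ne_zero_of hθ h
    · simp [hyi, Ne.symm hyi] at hi'
      linear_combination hi' - h2
  obtain ⟨l, hl, hl6⟩ := h6
  have hls : (l * l) * σ (l * l) = 1 := by rw [map_mul]; linear_combination (l * σ l + 1) * hl
  have hl12 : (l * l) ^ 6 ≠ 1 := fun e0 => hl6 (by
    have h' : (l ^ 6 - 1) * (l ^ 6 - 1) = 0 := by linear_combination e0 - (l ^ 6 - 1) * h2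
    exact sub_eq_zero.1 (mul_self_eq_zero.1 h'))
  have h1 := hcomm l hl hl6
  have h3 := hcomm _ hls hl12
  have e1 : (l * l) ^ 3 + σ (l * l) ^ 3 = (l ^ 3 + σ l ^ 3) * (l ^ 3 + σ l ^ 3) := by
    rw [map_mul]; linear_combination (-(l ^ 3 * σ l ^ 3)) * h2
  rw [e1] at h3
  set T := (l ^ 3 + σ l ^ 3) * (l ^ 3 + σ l ^ 3) with hT
  linear_combination (-N) * h3 + (N * T + 1) * h1

/-- Lengths of the coordinates of an image centre are not one. -/
theorem exists_tv_of_full (h2 : (2 : F) = 0) {Y : V} (hY : Cen M Y) (hf : ∀ x, e.repr Y x ≠ 0) :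
    ∃ t ∈ M, ¬ Mono e t ∧ (∀ x, t.1 x = x + B Y x • Y) ∧ (∀ x, σ (e.repr Y x) * e.repr Y x ≠ 1) := by
  obtain ⟨h0, t, ht, htx⟩ := hY
  have hcol : ∀ a x, e.repr (t.1 (e a)) x = (if x = a then 1 else 0) + σ (e.repr Y a) * e.repr Y x := fun a x => by
    rw [htx, S.coord', map_add, Finsupp.add_apply, map_smul, Finsupp.smul_apply, smul_eq_mul, S.repr_basis]
  have hnm : ¬ Mono e t := fun hm => by
    have h1 := hm.card_le 0
    have h3 : ({1, 2} : Finset (Fin 3)) ⊆ supp e (t.1 (e 0)) := fun x hx => by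
      rw [mem_supp, hcol]
      simp only [Finset.mem_insert, Finset.mem_singleton] at hx
      rcases hx with rfl | rfl <;>
        simp [mul_ne_zero (fun e' => hf 0 (S.sigma_eq_zero e')) (hf _)]
    have := (Finset.card_le_card h3).trans h1
    simp at this
  refine ⟨t, ht, hnm, htx, fun x e1 => S.no_zero hL h6 ht hnm x x ?_⟩
  rw [hcol, if_pos rfl, e1]
  linear_combination h2

/-- The images of the monomial centres under the transvection of an image centre. -/
theorem cen_images (h2 : (2 : F) = 0) {Y : V} (hY : Cen M Y) (hfull : ∀ x, e.repr Y x ≠ 0) {A : Fin 3 → F}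
    (hA : ∀ x, σ (e.repr Y x) * e.repr Y x = A x) {i j k : Fin 3} (hij : i ≠ j) (hik : i ≠ k) (hjk : j ≠ k)
    {R : F} (hRf : σ R = R) (hR : R * R = A i * A j) {τ : F} (hτ : τ ∈ trS σ) :
    A k * (A k + R * τ) ≠ 0 ∧ 1 + A i * A k + (1 + A i) * (R * τ) ≠ 1 ∧
      ∃ Y' : V, Cen M Y' ∧ (∀ x, e.repr Y' x ≠ 0) ∧ σ (e.repr Y' k) * e.repr Y' k = A k * (A k + R * τ) := by
  have hc := S.conj
  obtain ⟨t, ht, htm, htx, -⟩ := S.exists_tv_of_full hL h6 h2 hY hfull
  have htt : ∀ x, t.1 (t.1 x) = x := fun x => by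
    rw [htx (t.1 x), htx, map_add, map_smul, hY.1, smul_zero, add_zero, add_assoc, ← add_smul,
      show B Y x + B Y x = 0 by linear_combination (B Y x) * h2, zero_smul, add_zero]
  have hAsum : A i + A j = A k := by
    have h := hY.1
    rw [S.form_three hij hik hjk, hA, hA, hA] at h
    linear_combination h - (A k) * h2
  obtain ⟨η, hη, hητ⟩ := mem_trS.1 hτ
  have hσj : σ (e.repr Y j) ≠ 0 := fun e0 => hfull j (S.sigma_eq_zero e0)
  have hσi : σ (e.repr Y i) ≠ 0 := fun e0 => hfull i (S.sigma_eq_zero e0)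
  set θ := η * R / (σ (e.repr Y j) * e.repr Y i) with hθ
  have hden : σ (e.repr Y j) * e.repr Y i ≠ 0 := mul_ne_zero hσj (hfull i)
  have hθm : θ * (σ (e.repr Y j) * e.repr Y i) = η * R := div_mul_cancel₀ _ hden
  have hθ1 : θ * σ θ = 1 := by
    rw [hθ, map_div₀, map_mul, map_mul, hRf, hc.invol, div_mul_div_comm,
      div_eq_one_iff_eq (mul_ne_zero hden (mul_ne_zero (hfull j) hσi))]
    rw [← hA, ← hA] at hR
    linear_combination (R * R) * hη + hR
  have hP := S.cen_pair h2 hij hik hjk hθ1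
  set P := e i + θ • e j with hPdef
  have hPc := hP.map ht
  set Y' := t.1 P with hY'
  have hfull' : ∀ x, e.repr Y' x ≠ 0 := by
    intro x h0
    have h1 : B (e x) Y' = 0 := by rw [S.coord, h0]
    have h1' : B (t.1 (e x)) (t.1 Y') = 0 := by rw [isomGroup_apply, h1]
    rw [hY', htt] at h1'
    have h3 : B P (t.1 (e x)) = 0 := S.herm.isRefl _ _ h1'
    rw [hPdef, map_add, map_smulₛₗ, LinearMap.add_apply, LinearMap.smul_apply, smul_eq_mul, S.coord, S.coord] at h3
    have h4 := S.lengths_of_perp hL h6 h2 ht htm x hij hik hjk hθ1 h3 x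
    rw [htx, S.coord', map_add, Finsupp.add_apply, map_smul, Finsupp.smul_apply, smul_eq_mul, S.repr_basis,
      if_pos rfl, hA, map_add, map_one] at h4
    have hAf : σ (A x) = A x := by rw [← hA]; exact S.norm_fixed Y x
    rw [hAf] at h4
    have h5 : A x * A x = 0 := by linear_combination h4 - (A x) * h2
    have h6' := hA x
    rw [mul_self_eq_zero.1 h5] at h6'
    exact hfull x (S.norm_eq_zero h6')
  obtain ⟨-, -, -, -, hA1'⟩ := S.exists_tv_of_full hL h6 h2 hPc hfull'
  set u := B Y P with hu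
  have hue : u = σ (e.repr Y i) + θ * σ (e.repr Y j) := by
    rw [hu, hPdef, map_add, map_smul, S.coord', S.coord', smul_eq_mul]
  have huY : u * e.repr Y i = A i + η * R := by
    rw [hue, ← hA]; linear_combination hθm
  have huY' : σ u * σ (e.repr Y i) = A i + σ η * R := by
    rw [← map_mul, huY, map_add, map_mul, hRf, ← hA, S.norm_fixed]
  have hNu : σ u * u = A k + R * τ := by
    refine mul_left_cancel₀ (mul_ne_zero hσi (hfull i)) ?_
    have e1 : σ u * σ (e.repr Y i) * (u * e.repr Y i) = (A i + σ η * R) * (A i + η * R) := by rw [huY, huY']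
    rw [← hAsum, ← hητ]
    linear_combination e1 + (R * R) * hη + hR - (A i + A j + R * (η + σ η)) * hA i
  have hrep : ∀ x, e.repr Y' x = e.repr P x + u * e.repr Y x := fun x => by
    rw [hY', htx, map_add, Finsupp.add_apply, map_smul, Finsupp.smul_apply, smul_eq_mul]
  have hk' : σ (e.repr Y' k) * e.repr Y' k = A k * (A k + R * τ) := by
    rw [hrep, show e.repr P k = 0 by simp [hPdef, S.repr_basis, hik, hjk, hik.symm, hjk.symm, Finsupp.single_apply],
      zero_add, map_mul, ← hNu, ← hA]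
    ring
  have hi' : σ (e.repr Y' i) * e.repr Y' i = 1 + A i * A k + (1 + A i) * (R * τ) := by
    rw [hrep, show e.repr P i = 1 by simp [hPdef, S.repr_basis, hij, hij.symm, Finsupp.single_apply], map_add,
      map_one, map_mul]
    rw [← hητ] at hNu ⊢
    linear_combination huY + huY' + (A i) * hNu + (σ u * u) * hA i + (A i) * h2
  refine ⟨?_, ?_, Y', hPc, hfull', hk'⟩
  · rw [← hk']
    exact fun e0 => hfull' k (S.norm_eq_zero e0)
  · rw [← hi']
    exact hA1' i

theorem exists_root_length (h2 : (2 : F) = 0) (Y : V) (i j : Fin 3) :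
    ∃ R, σ R = R ∧ R * R = σ (e.repr Y i) * e.repr Y i * (σ (e.repr Y j) * e.repr Y j) := by
  obtain ⟨R, hR⟩ := FiniteField.isSquare_of_char_two
    (ringChar.eq_iff.2 (CharTwo.of_one_ne_zero_of_two_eq_zero one_ne_zero h2))
    (σ (e.repr Y i) * e.repr Y i * (σ (e.repr Y j) * e.repr Y j))
  refine ⟨R, ?_, hR.symm⟩
  have h1 : σ R * σ R = R * R := by rw [← map_mul, ← hR, map_mul, S.norm_fixed, S.norm_fixed]
  rcases mul_self_eq_mul_self_iff.1 h1 with h | h
  · exact h
  · rw [h]; linear_combination -R * h2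

/-- The inverses of the lengths of the coordinates of an image centre. -/
theorem inv_length_mem (h2 : (2 : F) = 0) {Y : V} (hY : Cen M Y) (hfull : ∀ x, e.repr Y x ≠ 0) (k : Fin 3) :
    (σ (e.repr Y k) * e.repr Y k)⁻¹ ∈ artinSchreier σ := by
  have hc := S.conj
  set A := fun x => σ (e.repr Y x) * e.repr Y x with hAdef
  have hA : ∀ x, σ (e.repr Y x) * e.repr Y x = A x := fun x => rfl
  have hA0 : ∀ x, A x ≠ 0 := fun x e0 => hfull x (S.norm_eq_zero e0)
  have hAf : ∀ x, σ (A x) = A x := fun x => S.norm_fixed Y x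
  obtain ⟨-, -, -, -, hA1⟩ := S.exists_tv_of_full hL h6 h2 hY hfull
  have hsumA : ∀ {i j k : Fin 3}, i ≠ j → i ≠ k → j ≠ k → A i + A j = A k := fun {i j k} hij hik hjk => by
    have h := hY.1
    rw [S.form_three hij hik hjk, hA, hA, hA] at h
    linear_combination h - (A k) * h2
  have hpair : ∀ {i j k : Fin 3}, i ≠ j → i ≠ k → j ≠ k → A j / (A i * (A k * A k)) ∈ artinSchreier σ := by
    intro i j k hij hik hjk
    obtain ⟨R, hRf, hR⟩ := S.exists_root_length hL h6 h2 Y i j
    rw [hA, hA] at hR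
    have hR0 : R ≠ 0 := fun e0 => mul_ne_zero (hA0 i) (hA0 j) (by rw [← hR, e0, zero_mul])
    have h1 : (A k / R)⁻¹ ∈ artinSchreier σ := by
      refine inv_mem_artinSchreier hc h2 (by rw [map_div₀, hAf, hRf]) fun hmem => ?_
      refine absurd ?_ (S.cen_images hL h6 h2 hY hfull hA hij hik hjk hRf hR hmem).1
      rw [mul_div_cancel₀ _ hR0, show A k + A k = 0 by linear_combination (A k) * h2, mul_zero]
    have hAi : 1 + A i ≠ 0 := fun e0 => hA1 i (by rw [hA]; linear_combination e0 - h2)
    have h3 : (A i * A k / ((1 + A i) * R))⁻¹ ∈ artinSchreier σ := by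
      refine inv_mem_artinSchreier hc h2 (by rw [map_div₀, map_mul σ (A i) (A k), map_mul σ (1 + A i) R, map_add, map_one, hAf, hAf, hRf])
        fun hmem => ?_
      refine absurd ?_ (S.cen_images hL h6 h2 hY hfull hA hij hik hjk hRf hR hmem).2.1
      field_simp
      linear_combination (A i * A k) * h2
    have h5 := artinSchreier_sq h2 (artinSchreier_add h2 h1 h3)
    have hAi0 := hA0 i
    have hAk0 := hA0 k
    have e1 : ((A k / R)⁻¹ + (A i * A k / ((1 + A i) * R))⁻¹) * ((A k / R)⁻¹ + (A i * A k / ((1 + A i) * R))⁻¹) =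
        R * R * ((1 + 2 * A i) * (1 + 2 * A i)) / (A i * A k * (A i * A k)) := by
      field_simp
      ring
    have e2 : A i * A j / (A i * A k * (A i * A k)) = A j / (A i * (A k * A k)) := by field_simp
    rwa [e1, h2, zero_mul, add_zero, mul_one, mul_one, hR, e2] at h5
  have hprod : ∀ {i j k : Fin 3}, i ≠ j → i ≠ k → j ≠ k → (A i * A j)⁻¹ ∈ artinSchreier σ := by
    intro i j k hij hik hjk
    have h := artinSchreier_add h2 (hpair hij hik hjk) (hpair hij.symm hjk hik)
    have hs := hsumA hij hik hjk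
    have hi0 := hA0 i
    have hj0 := hA0 j
    have hk0 := hA0 k
    convert h using 1
    field_simp
    linear_combination (-(A i + A j + A k)) * hs + (A i * A j) * h2
  obtain ⟨i, hik, -⟩ := exists_other k k
  obtain ⟨j, hji, hjk⟩ := exists_other i k
  have h := artinSchreier_add h2 (hpair hji.symm hik hjk) (hprod hik hji.symm hjk.symm)
  have hs := hsumA hjk hji hik.symm
  have hi0 := hA0 i
  have hk0 := hA0 k
  refine artinSchreier_of_sq h2 (by rw [map_inv₀, hA, hAf]) ?_
  rw [hA]
  convert h using 1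
  field_simp
  linear_combination -hs

/-- No image centre is full. -/
theorem false_of_full_cen (h2 : (2 : F) = 0) {Y : V} (hY : Cen M Y) (hfull : ∀ x, e.repr Y x ≠ 0) : False := by
  have hc := S.conj
  obtain ⟨R, hRf, hR⟩ := S.exists_root_length hL h6 h2 Y 0 1
  have hn : ∀ x, σ (e.repr Y x) * e.repr Y x ≠ 0 := fun x e0 => hfull x (S.norm_eq_zero e0)
  have hR0 : R ≠ 0 := fun e0 => mul_ne_zero (hn 0) (hn 1) (by rw [← hR, e0, zero_mul])
  set C := σ (e.repr Y 2) * e.repr Y 2 with hC
  set T₁ := (trS σ).image fun τ => (C * (C + R * τ))⁻¹ with hT₁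
  set T₂ := ((trS σ).erase 0).image fun τ => τ⁻¹ with hT₂
  have hsub₁ : ∀ y ∈ T₁, y ∈ artinSchreier σ := by
    intro y hy
    obtain ⟨τ, hτ, rfl⟩ := Finset.mem_image.1 hy
    obtain ⟨-, -, Y', hY', hf', hN⟩ := S.cen_images hL h6 h2 hY hfull (A := fun x => σ (e.repr Y x) * e.repr Y x)
      (fun _ => rfl) (i := 0) (j := 1) (k := 2) (by decide) (by decide) (by decide) hRf hR hτ
    have := S.inv_length_mem hL h6 h2 hY' hf' 2
    rwa [hN] at this
  have hdisj : Disjoint T₁ T₂ := by
    refine Finset.disjoint_left.2 fun y h1 h3 => ?_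
    obtain ⟨τ, hτ, rfl⟩ := Finset.mem_image.1 h3
    exact inv_trace_notMem hc h2 (Finset.mem_erase.1 hτ).2 (Finset.mem_erase.1 hτ).1 (hsub₁ _ h1)
  have hfix : T₁ ∪ T₂ ⊆ fixS σ := by
    intro y hy
    rcases Finset.mem_union.1 hy with h | h
    · obtain ⟨z, hz, rfl⟩ := mem_artinSchreier.1 (hsub₁ y h)
      exact mem_fixS.2 (by rw [map_add, map_mul, hz])
    · obtain ⟨τ, hτ, rfl⟩ := Finset.mem_image.1 h
      exact mem_fixS.2 (by rw [map_inv₀, mem_fixS.1 (trS_subset hc (Finset.mem_erase.1 hτ).2)])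
  have h := Finset.card_le_card hfix
  rw [Finset.card_union_of_disjoint hdisj, Finset.card_image_of_injective _ inv_injective,
    Finset.card_image_of_injective _ fun x y hxy =>
      mul_left_cancel₀ hR0 (add_left_cancel (mul_left_cancel₀ (hn 2) (inv_injective hxy)))] at h
  have := card_trS hc
  have := half_trace hc h2
  omega

/-- No nonmonomial element in characteristic two. -/
theorem mono_of_no_fix_even (h2 : (2 : F) = 0) {g : isomGroup B} (hg : g ∈ M) : Mono e g := by
  by_contra hgm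
  obtain ⟨T, hT, hcard⟩ := S.exists_full_phases hL h6 hg hgm (a := 0) (b := 1)
  have hq : (circ σ).card = (fixS σ).card + 1 := card_circ S.conj
  obtain ⟨t, htf, ht0, ht1⟩ := S.big
  have h3q : 3 ≤ (fixS σ).card := by
    refine le_trans (Finset.card_eq_three.2 ⟨0, 1, t, zero_ne_one, Ne.symm ht0, Ne.symm ht1, rfl⟩).ge
      (Finset.card_le_card ?_)
    simp [Finset.insert_subset_iff, htf]
  obtain ⟨θ, hθ⟩ : T.Nonempty := Finset.card_pos.1 (by omega)
  exact S.false_of_full_cen hL h6 h2
    ((S.cen_pair h2 (a := 0) (b := 1) (c := 2) (by decide) (by decide) (by decide) (hT θ hθ).1).map hg) (hT θ hθ).2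

end TSetting

end CfsgLib.Classical.GeoThree.SU
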