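import Cfsg.Agent.Lib.Classical.UFrameMax.Circle

/-!
# Field lemmas for frames of three-dimensional unitary spaces
-/

set_option autoImplicit false
set_option linter.unusedSectionVars false

open CfsgLib.Classical CfsgLib.Classical.UFrameMax

namespace CfsgLib.Classical.GeoThree.SU

variable {F : Type*} [Field F] [DecidableEq F] [Fintype F] {σ : F →+* F} (hc : IsConjugation σ)
include hc

theorem sigma_ne_zero {a : F} (ha : a ≠ 0) : σ a ≠ 0 := fun e => ha (by rw [← hc.invol a, e, map_zero])

/-- Phases making a product of two quasi-reflections a multiple of a transvection. -/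
theorem exists_phases_unipotent {ν : F} (hν : σ ν = ν) (h0 : ν ≠ 0) (h1 : ν ≠ 1) :
    ∃ l m c : F, l * σ l = 1 ∧ m * σ m = 1 ∧ c * σ c = 1 ∧ l ≠ 1 ∧ m ≠ 1 ∧ l * m = c * c ∧
      l + m + (l - 1) * (m - 1) * ν = 2 * c := by
  by_cases h2 : (2 : F) = 0
  · obtain ⟨m, hm, hm1, -⟩ := exists_circ_ne hc 1 1
    set D := (m + 1) * ν + 1 with hD
    have hm' : m + 1 ≠ 0 := fun e => hm1 (by linear_combination e - h2)
    have hD0 : D ≠ 0 := by
      intro e
      have hνm : m = -ν⁻¹ - 1 := by field_simp; linear_combination e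
      have hfix : σ m = m := by rw [hνm, map_sub, map_neg, map_inv₀, map_one, hν]
      rw [hfix] at hm
      rcases mul_self_eq_one_iff.1 hm with h | h
      · exact hm1 h
      · exact hm' (by rw [h, neg_add_cancel])
    have hσD : σ D ≠ 0 := sigma_ne_zero hc hD0
    set l := ((m + 1) * ν + m) / D with hl
    have hlD : l * D = (m + 1) * ν + m := div_mul_cancel₀ _ hD0
    have hl1 : l * σ l = 1 := by
      rw [hl, map_div₀, div_mul_div_comm, div_eq_one_iff_eq (mul_ne_zero hD0 hσD)]
      simp only [hD, map_add, map_mul, map_one, hν]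
      linear_combination (2 * ν + 1) * hm
    obtain ⟨c, hcc⟩ := FiniteField.isSquare_of_char_two
      (ringChar.eq_iff.2 (CharTwo.of_one_ne_zero_of_two_eq_zero one_ne_zero h2)) (l * m)
    refine ⟨l, m, c, hl1, hm, ?_, fun e => ?_, hm1, hcc, ?_⟩
    · have h : (c * σ c - 1) * (c * σ c - 1) = 0 := by
        have e := congrArg σ hcc
        rw [map_mul, map_mul] at e
        linear_combination (-(σ c * σ c)) * hcc - (l * m) * e + (m * σ m) * hl1 + hm - (c * σ c - 1) * h2
      exact sub_eq_zero.1 (mul_self_eq_zero.1 h)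
    · rw [e, one_mul] at hlD
      exact hm1 (by rw [hD] at hlD; linear_combination -hlD)
    · rw [hD] at hlD
      linear_combination hlD + (m - c + ν - l * ν) * h2
  · set K := ν * (ν - 1) with hK
    have hK0 : K ≠ 0 := mul_ne_zero h0 (sub_ne_zero.2 h1)
    have hKf : σ K = K := by rw [hK, map_mul, map_sub, map_one, hν]
    obtain ⟨v₀, hv₀⟩ := hc.exists_norm_eq (a := K) hKf
    have hv₀0 : v₀ ≠ 0 := fun e => hK0 (by rw [← hv₀, e, zero_mul])
    -- a point of norm `K` not fixed
    obtain ⟨v₁, hv₁, hv₁f⟩ : ∃ v, v * σ v = K ∧ σ v ≠ v := by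
      by_cases hf : σ v₀ = v₀
      · obtain ⟨η, hη, hηf⟩ := exists_circ_not_fix hc
        refine ⟨v₀ * η, by rw [map_mul]; linear_combination (η * σ η) * hv₀ + K * hη, fun e => hηf ?_⟩
        rw [map_mul, hf] at e
        exact mul_left_cancel₀ hv₀0 e
      · exact ⟨v₀, hv₀, hf⟩
    -- avoid one trace
    obtain ⟨v, hv, hvf, hvt⟩ : ∃ v, v * σ v = K ∧ σ v ≠ v ∧ v + σ v ≠ 2 * ν - 1 := by
      by_cases ht : v₁ + σ v₁ = 2 * ν - 1
      · refine ⟨-v₁, by rw [map_neg, neg_mul_neg, hv₁], by rw [map_neg]; exact fun e => hv₁f (neg_injective e),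
          fun e => hv₁f ?_⟩
        rw [map_neg] at e
        have hν2 : 2 * ν - 1 = 0 := mul_left_cancel₀ h2 (by linear_combination -e - ht)
        have hsq : (2 * v₁) * (2 * v₁) = 1 := by
          linear_combination (4 * v₁) * (ht + hν2) - 4 * hv₁ - (2 * ν - 1) * hν2 - 4 * hK
        have hsig : σ v₁ = -v₁ := by linear_combination ht + hν2
        rcases mul_self_eq_one_iff.1 hsq with h | h
        · have h' := congrArg σ h
          rw [map_mul, map_ofNat, map_one, hsig] at h'
          exact absurd (mul_left_cancel₀ h2 (by linear_combination h - h' : (2 : F) * (2 * v₁) = 2 * 0))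
            (by rw [h]; exact one_ne_zero)
        · have h' := congrArg σ h
          rw [map_mul, map_ofNat, map_neg, map_one, hsig] at h'
          exact absurd (mul_left_cancel₀ h2 (by linear_combination h - h' : (2 : F) * (2 * v₁) = 2 * 0))
            (by rw [h]; exact neg_ne_zero.2 one_ne_zero)
      · exact ⟨v₁, hv₁, hv₁f, ht⟩
    have hv0 : v ≠ 0 := fun e => hK0 (by rw [← hv, e, zero_mul])
    set δ := v - σ v with hδ
    have hδσ : σ δ = -δ := by rw [hδ, map_sub, hc.invol, neg_sub]
    have hδ1 : 1 + δ ≠ 0 := fun e => h2 (by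
      have := congrArg σ e
      rw [map_add, map_one, hδσ, map_zero] at this
      linear_combination e + this)
    have hδ1' : 1 - δ ≠ 0 := fun e => h2 (by
      have := congrArg σ e
      rw [map_sub, map_one, hδσ, map_zero] at this
      linear_combination e + this)
    set k := σ v + δ * ν with hk
    have hσk : σ k = v - δ * ν := by rw [hk, map_add, map_mul, hc.invol, hδσ, hν]; ring
    have hkk : k * σ k = K * ((1 + δ) * (1 - δ)) := by
      rw [hσk, hk, hK, hδ]
      rw [hK] at hv
      linear_combination hv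
    have hk0 : k ≠ 0 := fun e => by
      rw [e, zero_mul] at hkk
      exact mul_ne_zero hK0 (mul_ne_zero hδ1 hδ1') hkk.symm
    have hσk0 := sigma_ne_zero hc hk0
    set u := (1 + δ) / k with hu
    have huk : u * k = 1 + δ := div_mul_cancel₀ _ hk0
    have huk' : σ u * σ k = 1 - δ := by rw [← map_mul, huk, map_add, map_one, hδσ, sub_eq_add_neg]
    have hu0 : u ≠ 0 := fun e => hδ1 (by rw [← huk, e, zero_mul])
    have hσu := sigma_ne_zero hc hu0
    have hσv := sigma_ne_zero hc hv0
    have hnorm : u * σ u * (v * σ v) = 1 := by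
      refine mul_right_cancel₀ (mul_ne_zero hk0 hσk0) ?_
      rw [one_mul]
      linear_combination (v * σ v * (σ u * σ k)) * huk + (v * σ v * (1 + δ)) * huk' +
        ((1 + δ) * (1 - δ)) * hv - hkk
    clear_value u
    refine ⟨u / σ u, v / σ v, 1 / (σ u * σ v), ?_, ?_, ?_, fun e => hvt ?_, fun e => hvf ?_, ?_, ?_⟩
    · rw [map_div₀, hc.invol]; field_simp
    · rw [map_div₀, hc.invol]; field_simp
    · rw [map_div₀, map_one, map_mul, hc.invol, hc.invol]
      field_simp
      linear_combination -hnorm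
    · rw [div_eq_one_iff_eq hσu] at e
      rw [← e] at huk'
      rw [hσk] at huk'
      rw [hk] at huk
      have h3 : u * (v + σ v) = 2 := by linear_combination huk + huk'
      have h4 : u * (δ * (2 * ν - 1)) = 2 * δ := by linear_combination huk - huk' - u * hδ
      have h5 : δ * (u * (2 * ν - 1) - 2) = 0 := by linear_combination h4
      have hδ0 : δ ≠ 0 := sub_ne_zero.2 (Ne.symm hvf)
      exact mul_left_cancel₀ hu0 (by linear_combination h3 - (mul_eq_zero.1 h5).resolve_left hδ0)
    · rw [div_eq_one_iff_eq hσv] at e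
      exact e.symm
    · field_simp
      linear_combination hnorm
    · rw [hk] at huk
      rw [hσk] at huk'
      rw [hδ] at huk huk'
      field_simp
      linear_combination huk + huk'

/-- An additive subgroup with more than half of the fixed field contains it. -/
theorem fix_le_of_half (A : AddSubgroup F) {S : Finset F} (hS : S ⊆ fixS σ) (hSA : ∀ x ∈ S, x ∈ A)
    (hcard : (fixS σ).card < 2 * S.card) {x : F} (hx : σ x = x) : x ∈ A := by
  let K : AddSubgroup F :=
    { carrier := {x | σ x = x}
      add_mem' := fun {a b} (ha : σ a = a) (hb : σ b = b) => by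
        change σ (a + b) = a + b
        rw [map_add, ha, hb]
      zero_mem' := map_zero σ
      neg_mem' := fun {a} (ha : σ a = a) => by
        change σ (-a) = -a
        rw [map_neg, ha] }
  have h1 : S.card ≤ Nat.card (K ⊓ A : AddSubgroup F) := by
    rw [← Nat.card_eq_finsetCard]
    exact Nat.card_le_card_of_injective (fun y => ⟨y.1, AddSubgroup.mem_inf.2 ⟨mem_fixS.1 (hS y.2), hSA _ y.2⟩⟩)
      fun y z e => Subtype.ext (congrArg (fun t : (K ⊓ A : AddSubgroup F) => (t : F)) e)
  have hK : Nat.card K = (fixS σ).card := by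
    rw [← Nat.card_eq_finsetCard]
    exact Nat.card_congr (Equiv.subtypeEquivRight fun y => mem_fixS.symm)
  obtain ⟨d, hd⟩ := AddSubgroup.card_dvd_of_le (inf_le_left : (K ⊓ A : AddSubgroup F) ≤ K)
  rw [hK] at hd
  have hd1 : d = 1 := by
    rcases Nat.lt_or_ge d 2 with h4 | h4
    · rcases d with _ | d
      · rw [mul_zero] at hd; have := two_le_fix hc; omega
      · omega
    · exfalso
      have : Nat.card (K ⊓ A : AddSubgroup F) * 2 ≤ Nat.card (K ⊓ A : AddSubgroup F) * d := Nat.mul_le_mul_left _ h4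
      omega
  rw [hd1, mul_one] at hd
  have hle : K ≤ A := (AddSubgroup.eq_of_le_of_card_ge (inf_le_left : (K ⊓ A : AddSubgroup F) ≤ K)
    (by rw [hK, hd])).ge.trans inf_le_right
  exact hle hx

/-- An element of norm one whose sixth power is not one. -/
theorem exists_circ_six (h2 : (fixS σ).card ≠ 2) (h5 : (fixS σ).card ≠ 5) :
    ∃ l : F, l * σ l = 1 ∧ l ^ 6 ≠ 1 := by
  obtain ⟨g, hg⟩ := IsCyclic.exists_generator (α := (normHom σ).ker)
  have hord : orderOf g = (fixS σ).card + 1 := by
    rw [orderOf_eq_card_of_forall_mem_zpowers hg, ← card_circ_ker, card_circ hc]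
  refine ⟨((g.1 : Fˣ) : F), congrArg Units.val (MonoidHom.mem_ker.1 g.2), fun h => ?_⟩
  have h' : g ^ 6 = 1 := Subtype.ext (Units.ext (by simpa using h))
  have hdvd := orderOf_dvd_of_pow_eq_one h'
  rw [hord] at hdvd
  have hle := Nat.le_of_dvd (by norm_num) hdvd
  have := two_le_fix hc
  have : (fixS σ).card ≤ 5 := by omega
  interval_cases h : (fixS σ).card <;> omega

/-- The fixed elements of trace zero over the field with two elements. -/
def artinSchreier (σ : F →+* F) : Finset F := (fixS σ).image fun y => y + y * y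

omit hc in
theorem mem_artinSchreier {x : F} : x ∈ artinSchreier σ ↔ ∃ y, σ y = y ∧ y + y * y = x := by
  simp [artinSchreier]

omit hc in
theorem artinSchreier_add (h2 : (2 : F) = 0) {a b : F} (ha : a ∈ artinSchreier σ) (hb : b ∈ artinSchreier σ) :
    a + b ∈ artinSchreier σ := by
  obtain ⟨y, hy, rfl⟩ := mem_artinSchreier.1 ha
  obtain ⟨z, hz, rfl⟩ := mem_artinSchreier.1 hb
  exact mem_artinSchreier.2 ⟨y + z, by rw [map_add, hy, hz], by linear_combination (y * z) * h2⟩

omit hc in
theorem artinSchreier_sq (h2 : (2 : F) = 0) {a : F} (ha : a ∈ artinSchreier σ) :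
    a * a ∈ artinSchreier σ := by
  obtain ⟨y, hy, rfl⟩ := mem_artinSchreier.1 ha
  exact mem_artinSchreier.2 ⟨y * y, by rw [map_mul, hy], by linear_combination (-(y * y * y)) * h2⟩

omit hc in
theorem artinSchreier_of_sq (h2 : (2 : F) = 0) {a : F} (haf : σ a = a) (ha : a * a ∈ artinSchreier σ) :
    a ∈ artinSchreier σ := by
  have h := artinSchreier_add h2 ha (mem_artinSchreier.2 ⟨a, haf, rfl⟩)
  rwa [show a * a + (a + a * a) = a by linear_combination (a * a) * h2] at h

omit hc in
theorem two_mul_card_artinSchreier (h2 : (2 : F) = 0) : (fixS σ).card ≤ 2 * (artinSchreier σ).card := by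
  refine Finset.card_le_mul_card_image _ _ fun x _ => ?_
  by_cases hne : ({y ∈ fixS σ | y + y * y = x}).Nonempty
  · obtain ⟨y, hy⟩ := hne
    simp only [Finset.mem_filter] at hy
    refine le_trans (Finset.card_le_card (t := {y, y + 1}) fun z hz => ?_) Finset.card_le_two
    simp only [Finset.mem_filter] at hz
    have h : (z - y) * (z - (y + 1)) = 0 := by
      linear_combination hz.2 - hy.2 + (y * y + y - z * y - z) * h2
    simp only [Finset.mem_insert, Finset.mem_singleton]
    exact (mul_eq_zero.1 h).imp sub_eq_zero.1 sub_eq_zero.1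
  · rw [Finset.not_nonempty_iff_eq_empty.1 hne]; simp

/-- The inverse of a trace of an element of norm one is not of the form `y + y²`. -/
theorem inv_trace_notMem (h2 : (2 : F) = 0) {τ : F} (hτ : τ ∈ trS σ) (h0 : τ ≠ 0) :
    τ⁻¹ ∉ artinSchreier σ := by
  intro h
  obtain ⟨l, hl, hlτ⟩ := mem_trS.1 hτ
  obtain ⟨y, hy, hyy⟩ := mem_artinSchreier.1 h
  have hτf : σ τ = τ := mem_fixS.1 (trS_subset hc hτ)
  have hyy' : (y + y * y) * τ = 1 := by rw [hyy, inv_mul_cancel₀ h0]
  -- the roots of `X² + τ X + 1` are fixed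
  have hroot : (l - (τ * y + 1)) * (σ l - (τ * y + 1)) = 0 := by
    linear_combination hl - (τ * y + 1) * hlτ + τ * hyy' + (1 + τ * y - τ * τ * y) * h2
  have hfix : σ (τ * y + 1) = τ * y + 1 := by rw [map_add, map_mul, map_one, hτf, hy]
  have hl' : σ l = l := by
    rcases mul_eq_zero.1 hroot with h' | h'
    · have e : l = τ * y + 1 := sub_eq_zero.1 h'
      rw [e, hfix]
    · have e : σ l = τ * y + 1 := sub_eq_zero.1 h'
      have e' := congrArg σ e
      rw [hc.invol, hfix] at e'
      rw [e, e']
  rw [hl'] at hl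
  rcases mul_self_eq_one_iff.1 hl with h' | h'
  · exact h0 (by rw [← hlτ, hl', h']; linear_combination h2)
  · exact h0 (by rw [← hlτ, hl', h']; linear_combination -h2)

theorem half_trace (h2 : (2 : F) = 0) : (fixS σ).card ≤ 2 * ((trS σ).erase 0).card := by
  have h := card_trS hc
  have h0 : (0 : F) ∈ trS σ := mem_trS.2 ⟨1, by simp, by rw [map_one]; linear_combination h2⟩
  rw [← Finset.card_erase_add_one h0] at h
  omega

/-- Inverses of the fixed elements which are no traces of elements of norm one. -/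
theorem inv_mem_artinSchreier (h2 : (2 : F) = 0) {x : F} (hx : σ x = x) (hxt : x ∈ trS σ → x = 0) :
    x⁻¹ ∈ artinSchreier σ := by
  by_contra hne
  have hx0 : x ≠ 0 := by
    rintro rfl
    exact hne (mem_artinSchreier.2 ⟨0, map_zero σ, by simp⟩)
  set T := insert x⁻¹ (((trS σ).erase 0).image fun τ => τ⁻¹) with hT
  have hTsub : T ⊆ fixS σ \ artinSchreier σ := by
    intro y hy
    simp only [hT, Finset.mem_insert, Finset.mem_image, Finset.mem_erase] at hy
    rcases hy with rfl | ⟨τ, ⟨hτ0, hτ⟩, rfl⟩
    · exact Finset.mem_sdiff.2 ⟨mem_fixS.2 (by rw [map_inv₀, hx]), hne⟩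
    · exact Finset.mem_sdiff.2 ⟨mem_fixS.2 (by rw [map_inv₀, mem_fixS.1 (trS_subset hc hτ)]),
        inv_trace_notMem hc h2 hτ hτ0⟩
  have hAS : artinSchreier σ ⊆ fixS σ := fun y hy => by
    obtain ⟨z, hz, rfl⟩ := mem_artinSchreier.1 hy
    exact mem_fixS.2 (by rw [map_add, map_mul, hz])
  have h := Finset.card_le_card hTsub
  rw [Finset.card_sdiff_of_subset hAS, hT, Finset.card_insert_of_notMem, Finset.card_image_of_injective _ inv_injective]
    at h
  · have := two_mul_card_artinSchreier (σ := σ) h2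
    have := half_trace hc h2
    omega
  · simp only [Finset.mem_image, Finset.mem_erase, not_exists, not_and]
    intro τ hτ e
    exact hx0 (hxt (inv_injective e ▸ hτ.2))

end CfsgLib.Classical.GeoThree.SU
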