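import Cfsg.Agent.Lib.Classical.GeoThree.SU.Frame.Basic
import Cfsg.Agent.Lib.Classical.GeoThree.SU.Frame.Phase

/-!
# An element fixing a frame line and not monomial gives all axes

Two quasi-reflections of a plane multiply, for suitable phases, to a scalar times a transvection; with the
monomial group this transvection gives a whole root group.
-/

set_option autoImplicit false
set_option linter.unusedSectionVars false
set_option linter.unusedSimpArgs false

open Module
open CfsgLib.Classical CfsgLib.Classical.UFrameMax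

namespace CfsgLib.Classical.GeoThree.SU

variable {F : Type*} [Field F] [DecidableEq F] [Fintype F] {V : Type*} [AddCommGroup V] [Module F V]
  [FiniteDimensional F V] {σ : F →+* F} {B : V →ₛₗ[σ] V →ₗ[F] F}

theorem exists_perm_three (j k a b : Fin 3) (hjk : j ≠ k) (hab : a ≠ b) :
    ∃ π : Equiv.Perm (Fin 3), π j = a ∧ π k = b := by
  revert j k a b; decide

theorem uTv_eq {t t' : isomGroup B} {v : V} {c : F} (h : IsUTv t v c) (h' : IsUTv t' v c) : t = t' :=
  Subtype.ext (LinearEquiv.ext fun x => by rw [h.2.2, h'.2.2])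

theorem uTv_mul {t t' : isomGroup B} {v : V} {c c' : F} (h : IsUTv t v c) (h' : IsUTv t' v c') :
    IsUTv (t * t') v (c + c') := by
  refine ⟨h.1, by rw [map_add]; linear_combination h.2.1 + h'.2.1, fun x => ?_⟩
  change t.1 (t'.1 x) = _
  rw [h'.2.2, h.2.2, map_add, map_smul, h.1, smul_zero, add_zero, add_mul, add_smul]
  abel

/-- An isometry differing from the identity by a map of rank one is a transvection. -/
theorem isUTv_of_rank_one (h : IsHermitian B) (hN : B.SeparatingRight) {t : isomGroup B} {P : V} (hP : P ≠ 0)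
    (φ : V →ₗ[F] F) (hφP : φ P = 0) (hφ : φ ≠ 0) (ht : ∀ x, t.1 x = x + φ x • P) :
    ∃ c, IsUTv t P c ∧ c ≠ 0 := by
  have hσ0 : ∀ {a : F}, σ a = 0 → a = 0 := fun {a} ha => by rw [← h.conj.invol a, ha, map_zero]
  have htP : t.1 P = P := by rw [ht, hφP, zero_smul, add_zero]
  have hPP : B P P = 0 := by
    by_contra hne
    refine hφ (LinearMap.ext fun x => ?_)
    have h1 := isomGroup_apply t x P
    rw [htP, ht, map_add, LinearMap.add_apply, map_smulₛₗ, LinearMap.smul_apply, smul_eq_mul, add_eq_left,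
      mul_eq_zero] at h1
    rw [LinearMap.zero_apply]
    exact hσ0 (h1.resolve_right hne)
  obtain ⟨y₀, hy₀⟩ : ∃ y, B P y = 1 := by
    obtain ⟨y, hy⟩ : ∃ y, B P y ≠ 0 := by
      by_contra hc
      push Not at hc
      exact hP (hN P fun w => h.isRefl _ _ (hc w))
    exact ⟨(B P y)⁻¹ • y, by rw [map_smul, smul_eq_mul, inv_mul_cancel₀ hy]⟩
  have hrel : ∀ x, σ (φ x) + φ y₀ * B x P = 0 := fun x => by
    have h1 := isomGroup_apply t x y₀
    simp only [ht, map_add, map_smulₛₗ, LinearMap.add_apply, LinearMap.smul_apply, hy₀, hPP, smul_eq_mul,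
      RingHom.id_apply, mul_one, mul_zero, add_zero] at h1
    linear_combination h1
  have hx : ∀ x, φ x = -σ (φ y₀) * B P x := fun x => by
    have h1 := congrArg σ (hrel x)
    rw [map_add, map_mul, h.conj.invol, h.symm, map_zero] at h1
    linear_combination h1
  refine ⟨-σ (φ y₀), ⟨hPP, ?_, fun x => by rw [ht, hx x]⟩, fun e => hφ (LinearMap.ext fun x => ?_)⟩
  · have h1 := hx y₀
    rw [hy₀, mul_one] at h1
    rw [map_neg, h.conj.invol]
    linear_combination -h1
  · rw [hx, e, zero_mul, LinearMap.zero_apply]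

namespace TSetting

variable {e : Basis (Fin 3) F V} {M : Subgroup (isomGroup B)} (S : TSetting B e M)
include S

/-- A diagonal element of two coordinates conjugated by an isometry. -/
theorem conj_diag {D h : isomGroup B} {i j k : Fin 3} (hij : i ≠ j) (hik : i ≠ k) (hjk : j ≠ k) {a b : F}
    (hi : D.1 (e i) = a • e i) (hj : D.1 (e j) = b • e j) (hk : D.1 (e k) = e k) (u : V) :
    (h * D * h⁻¹).1 u =
      u + ((a - 1) * B (h.1 (e i)) u) • h.1 (e i) + ((b - 1) * B (h.1 (e j)) u) • h.1 (e j) := by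
  obtain ⟨y, rfl⟩ := h.1.surjective u
  change h.1 (D.1 (h.1.symm (h.1 y))) = _
  rw [LinearEquiv.symm_apply_apply, isomGroup_apply, isomGroup_apply, S.coord, S.coord, ← map_smul h.1,
    ← map_smul h.1, ← map_add, ← map_add]
  congr 1
  conv_lhs => rw [S.eq_of_coords hij hik hjk y]
  conv_rhs => arg 1; arg 1; rw [S.eq_of_coords hij hik hjk y]
  rw [map_add, map_add, map_smul, map_smul, map_smul, hi, hj, hk]
  module

/-- A transvection in a coordinate plane. -/
theorem exists_plane_transvection {h : isomGroup B} (hM : h ∈ M) {i : Fin 3} {li : F}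
    (hi : h.1 (e i) = li • e i) (hh : ¬ Mono e h) :
    ∃ j k, i ≠ j ∧ i ≠ k ∧ j ≠ k ∧ ∃ (ζ c : F) (t : isomGroup B), t ∈ M ∧ ζ * σ ζ = -1 ∧
      IsUTv t (e j + ζ • e k) c ∧ c ≠ 0 ∧ ((2 : F) = 0 → c ≠ 1) := by
  obtain ⟨j, hj⟩ : ∃ j, 2 ≤ (supp e (h.1 (e j))).card := by
    by_contra! hall
    exact hh (Mono.of_card fun a => Nat.le_of_lt_succ (hall a))
  have hli := S.norm_one hi
  have hji : i ≠ j := fun e' => by
    rw [← e', hi, supp_smul (norm_ne_zero_of hli), supp_basis, Finset.card_singleton] at hj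
    omega
  set x := h.1 (e j) with hx
  have hxi : e.repr x i = 0 := by
    have h1 := isomGroup_apply h (e i) (e j)
    rw [hi, S.on, if_neg hji, map_smulₛₗ, LinearMap.smul_apply, smul_eq_mul, S.coord, ← hx] at h1
    exact (mul_eq_zero.1 h1).resolve_left fun h0 => norm_ne_zero_of hli (S.sigma_eq_zero h0)
  obtain ⟨k, hki, hkj⟩ := exists_other i j
  have hik : i ≠ k := hki.symm
  have hjk : j ≠ k := hkj.symm
  have hsub : supp e x ⊆ {j, k} := supp_subset_iff.2 fun a ha => by
    rcases cases_three hji hik hjk a with rfl | rfl | rfl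
    · exact hxi
    · simp at ha
    · simp at ha
  have heq := Finset.eq_of_subset_of_card_le hsub (by rw [Finset.card_pair hjk]; exact hj)
  set α := e.repr x j with hα
  set β := e.repr x k with hβ
  have hα0 : α ≠ 0 := mem_supp.1 (by rw [heq]; simp)
  have hβ0 : β ≠ 0 := mem_supp.1 (by rw [heq]; simp)
  have hxx : σ α * α + σ β * β = 1 := by
    have h1 : B x x = 1 := by rw [hx, isomGroup_apply, S.on, if_pos rfl]
    rw [S.form_three hji hik hjk, hxi, ← hα, ← hβ] at h1
    simpa using h1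
  set ν := σ α * α with hν
  have hν0 : ν ≠ 0 := mul_ne_zero (fun e' => hα0 (S.sigma_eq_zero e')) hα0
  have hν1 : ν ≠ 1 := fun e' => hβ0 (S.norm_eq_zero (by linear_combination hxx - e'))
  have hνf : σ ν = ν := S.norm_fixed x j
  obtain ⟨l, m, c, hl, hm, hc, hl1, hm1, hlm, htr⟩ := exists_phases_unipotent S.conj hνf hν0 hν1
  have hc0 := norm_ne_zero_of hc
  have hl0 := norm_ne_zero_of hl
  have hm0 := norm_ne_zero_of hm
  obtain ⟨D₁, hD₁M, -, hD₁j, hD₁i, hD₁k⟩ := S.exists_diag_mem hji.symm hjk hik (a := l) (b := σ l) (c := 1) hl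
    (S.norm_sigma hl) (by simp) (by rw [mul_one]; exact hl)
  rw [one_smul] at hD₁k
  obtain ⟨D₂, hD₂M, -, hD₂j, hD₂i, hD₂k⟩ := S.exists_diag_mem hji.symm hjk hik (a := m) (b := σ m) (c := 1) hm
    (S.norm_sigma hm) (by simp) (by rw [mul_one]; exact hm)
  rw [one_smul] at hD₂k
  have hcc : σ l * σ m * (c * c) = 1 := by
    rw [← hlm]; linear_combination (m * σ m) * hl + hm
  obtain ⟨D₀, hD₀M, -, hD₀j, hD₀i, hD₀k⟩ := S.exists_diag_mem hji.symm hjk hik (a := c) (b := σ l * σ m) (c := c)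
    hc (by rw [map_mul, S.conj.invol, S.conj.invol]; linear_combination (m * σ m) * hl + hm) hc
    (by linear_combination hcc)
  set g := h * D₁ * h⁻¹ * D₂ with hg
  set t := D₀⁻¹ * g with ht
  have htM : t ∈ M :=
    M.mul_mem (M.inv_mem hD₀M) (M.mul_mem (M.mul_mem (M.mul_mem hM hD₁M) (M.inv_mem hM)) hD₂M)
  have hconj := S.conj_diag (h := h) hji.symm hjk hik hD₁j hD₁i hD₁k
  have hBx : ∀ a, B x (e a) = σ (e.repr x a) := fun a => S.coord' a x
  have hBi : ∀ a, B (h.1 (e i)) (e a) = σ li * (if i = a then 1 else 0) := fun a => by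
    rw [hi, map_smulₛₗ, LinearMap.smul_apply, smul_eq_mul, S.on]
  have hxeq : x = α • e j + β • e k := by
    conv_lhs => rw [S.eq_of_coords hji hik hjk x, hxi, zero_smul, zero_add]
  set a₁₁ := m * (1 + (l - 1) * ν) / c with ha₁₁
  set a₂₁ := m * (l - 1) * (σ α * β) / c with ha₂₁
  set a₁₂ := (l - 1) * (σ β * α) / c with ha₁₂
  set a₂₂ := (1 + (l - 1) * (σ β * β)) / c with ha₂₂
  have hsum : a₁₁ + a₂₂ = 2 := by
    rw [ha₁₁, ha₂₂, ← add_div, div_eq_iff hc0]
    linear_combination htr + (l - 1) * hxx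
  have hdet : a₁₁ * a₂₂ - a₁₂ * a₂₁ = 1 := by
    rw [ha₁₁, ha₂₂, ha₁₂, ha₂₁]
    field_simp
    rw [hν]
    linear_combination (m * (l - 1)) * hxx + hlm
  have ha₂₁0 : a₂₁ ≠ 0 := div_ne_zero (mul_ne_zero (mul_ne_zero hm0 (sub_ne_zero.2 hl1))
    (mul_ne_zero (fun e' => hα0 (S.sigma_eq_zero e')) hβ0)) hc0
  have ha₁₂0 : a₁₂ ≠ 0 := div_ne_zero (mul_ne_zero (sub_ne_zero.2 hl1)
    (mul_ne_zero (fun e' => hβ0 (S.sigma_eq_zero e')) hα0)) hc0
  have ha₁₁1 : a₁₁ - 1 ≠ 0 := fun e' => mul_ne_zero ha₁₂0 ha₂₁0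
    (by linear_combination a₁₁ * hsum - hdet - (a₁₁ - 1) * e')
  have hD0s : ∀ {y z : V}, D₀.1 z = y → (D₀⁻¹ : isomGroup B).1 y = z := fun {y z} hz => by
    change D₀.1.symm y = z
    rw [LinearEquiv.symm_apply_eq, hz]
  have htj : t.1 (e j) = a₁₁ • e j + a₂₁ • e k := by
    refine hD0s ?_
    change D₀.1 (a₁₁ • e j + a₂₁ • e k) = (h * D₁ * h⁻¹).1 (D₂.1 (e j))
    rw [hD₂j, map_add, map_smul, map_smul, hD₀j, hD₀k, hconj, map_smul, map_smul, ← hx, hBx, hBi, if_neg hji,
      ← hα, hxeq, ha₁₁, ha₂₁, hν]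
    match_scalars <;> field_simp <;> ring
  have htk : t.1 (e k) = a₁₂ • e j + a₂₂ • e k := by
    refine hD0s ?_
    change D₀.1 (a₁₂ • e j + a₂₂ • e k) = (h * D₁ * h⁻¹).1 (D₂.1 (e k))
    rw [hD₂k, map_add, map_smul, map_smul, hD₀j, hD₀k, hconj, ← hx, hBx, hBi, if_neg hik,
      ← hβ, hxeq, ha₁₂, ha₂₂]
    match_scalars <;> field_simp <;> ring
  have hti : t.1 (e i) = e i := by
    refine hD0s ?_
    change D₀.1 (e i) = (h * D₁ * h⁻¹).1 (D₂.1 (e i))
    rw [hD₂i, hD₀i, map_smul, hconj, ← hx, hBx, hBi, if_pos rfl, hxi, map_zero, hi, mul_zero, zero_smul, add_zero]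
    match_scalars
    have hl' : σ li * li = 1 := by rw [mul_comm]; exact hli
    linear_combination (-(σ m * (σ l - 1))) * hl'
  clear_value t g
  -- its transvection form
  set lam := a₁₂ / (a₁₁ - 1) with hlam
  clear_value a₁₁ a₁₂ a₂₁ a₂₂
  have hkk' : a₂₂ = 1 + lam * a₂₁ := by
    refine mul_right_cancel₀ ha₁₁1 ?_
    rw [add_mul, mul_assoc, mul_comm a₂₁, ← mul_assoc, hlam, div_mul_cancel₀ _ ha₁₁1]
    linear_combination hdet - hsum
  set P := (a₁₁ - 1) • e j + a₂₁ • e k with hP
  let φ : V →ₗ[F] F := e.coord j + lam • e.coord k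
  have hφ : ∀ y, φ y = e.repr y j + lam * e.repr y k := fun y => by simp [φ]
  have hrepr : ∀ a b, e.repr (e a) b = if b = a then (1 : F) else 0 := fun a b => by
    rw [← one_smul F (e a), repr_smul_basis]
  have hPj : e.repr P j = a₁₁ - 1 := by simp [hP, hrepr, hjk]
  have hPk : e.repr P k = a₂₁ := by simp [hP, hrepr, hkj]
  have hP0 : P ≠ 0 := fun e' => ha₂₁0 (by rw [← hPk, e']; simp)
  have hφP : φ P = 0 := by
    rw [hφ, hPj, hPk, hlam]
    field_simp
    linear_combination a₁₁ * hsum - hdet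
  have hφ0 : φ ≠ 0 := fun e' => one_ne_zero (α := F) (by
    have := LinearMap.congr_fun e' (e j)
    rw [hφ, hrepr, hrepr, if_pos rfl, if_neg hkj, mul_zero, add_zero, LinearMap.zero_apply] at this
    exact this)
  have ht' : ∀ y, t.1 y = y + φ y • P := fun y => by
    have hlin : (t.1 : V →ₗ[F] V) = LinearMap.id + LinearMap.smulRight φ P := by
      refine e.ext fun a => ?_
      rcases cases_three hji hik hjk a with rfl | rfl | rfl
      · simp [hti, hφ, hrepr, hji.symm, hik.symm]
      · simp only [LinearEquiv.coe_coe, htj, LinearMap.add_apply, LinearMap.id_apply, LinearMap.smulRight_apply,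
          hφ, hrepr, hP, if_pos, if_neg hkj]
        module
      · simp only [LinearEquiv.coe_coe, htk, LinearMap.add_apply, LinearMap.id_apply, LinearMap.smulRight_apply,
          hφ, hrepr, hP, if_pos, if_neg hjk]
        match_scalars
        · rw [hlam]; field_simp; ring
        · linear_combination hkk'
    simpa using LinearMap.congr_fun hlin y
  obtain ⟨c₀, hc₀, hc₀0⟩ := isUTv_of_rank_one S.herm S.sep hP0 φ hφP hφ0 ht'
  set ζ := a₂₁ / (a₁₁ - 1) with hζ
  have hPQ : (a₁₁ - 1)⁻¹ • P = e j + ζ • e k := by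
    rw [hP, smul_add, smul_smul, smul_smul, inv_mul_cancel₀ ha₁₁1, one_smul, hζ, div_eq_inv_mul]
  have hQ := hc₀.smul S.conj.invol (inv_ne_zero ha₁₁1)
  rw [hPQ] at hQ
  set c₁ := c₀ / ((a₁₁ - 1)⁻¹ * σ (a₁₁ - 1)⁻¹) with hc₁
  have hc₁0 : c₁ ≠ 0 := div_ne_zero hc₀0 (mul_ne_zero (inv_ne_zero ha₁₁1)
    (fun e' => inv_ne_zero ha₁₁1 (S.sigma_eq_zero e')))
  clear_value c₁
  refine ⟨j, k, hji, hik, hjk, ζ, c₁, t, htM, ?_, hQ, hc₁0, fun h2 e1 => ?_⟩
  · have h1 := hQ.1
    rw [S.form_three hji hik hjk] at h1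
    simp [hrepr, hji, hik, hkj, hjk] at h1
    linear_combination h1
  · -- in characteristic two the transvection is not monomial
    have h1 := hQ.2.2 (e j)
    rw [htj, S.coord'] at h1
    have h2' := congrArg (fun y => e.repr y j) h1
    simp [hrepr, hjk, e1] at h2'
    have h3 : 1 + (l - 1) * ν = 0 := by
      refine (mul_eq_zero.1 (show m * (1 + (l - 1) * ν) = 0 from ?_)).resolve_left hm0
      rw [ha₁₁] at h2'
      field_simp at h2'
      linear_combination h2' + c * h2
    have hl' : l = -ν⁻¹ + 1 := by field_simp; linear_combination h3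
    have hfix : σ l = l := by rw [hl', map_add, map_neg, map_inv₀, map_one, hνf]
    rw [hfix] at hl
    rcases mul_self_eq_one_iff.1 hl with h4 | h4
    · exact hl1 h4
    · exact hl1 (by linear_combination h4 + (-1 : F) * h2)

/-- All axes in the coordinate planes. -/
theorem axes_two_of_fix {h : isomGroup B} (hM : h ∈ M) {i : Fin 3} {li : F}
    (hi : h.1 (e i) = li • e i) (hh : ¬ Mono e h) {v : V} (hv : B v v = 0) (hs : (supp e v).card ≤ 2) :
    IsTAxis M v := by
  obtain ⟨j, k, hij, hik, hjk, ζ₀, c₀, t₀, ht₀M, hζ₀, ht₀, hc₀0, hc₀1⟩ := S.exists_plane_transvection hM hi hh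
  -- transvections with the same coefficient at all the centres of the plane
  have hall : ∀ {ζ c : F} {t : isomGroup B}, t ∈ M → IsUTv t (e j + ζ • e k) c → ζ * σ ζ = -1 →
      ∀ ζ', ζ' * σ ζ' = -1 → ∀ t', IsUTv t' (e j + ζ' • e k) c → t' ∈ M := by
    intro ζ c t ht htv hζ ζ' hζ' t' ht'
    have hζ0 : ζ ≠ 0 := fun e' => by simp [e'] at hζ
    have hσζ : σ ζ ≠ 0 := fun e' => hζ0 (S.sigma_eq_zero e')
    set η := ζ' / ζ
    have hη : η * σ η = 1 := by
      simp only [η, map_div₀]
      rw [div_mul_div_comm, hζ, hζ', neg_div_neg_eq, div_one]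
    obtain ⟨D, hD, -, hDj, hDk, -⟩ := S.exists_diag_mem hjk hij.symm hik.symm (a := 1) (b := η) (c := σ η)
      (by simp) hη (S.norm_sigma hη) (by rw [one_mul]; exact hη)
    have h1 := htv.conj D
    rw [map_add, map_smul, hDj, hDk, one_smul, smul_smul, mul_div_cancel₀ _ hζ0] at h1
    rw [uTv_eq ht' h1]
    exact M.mul_mem (M.mul_mem hD ht) (M.inv_mem hD)
  let Λ : AddSubgroup F :=
    { carrier := {c | c + σ c = 0 ∧ ∀ ζ, ζ * σ ζ = -1 → ∀ t, IsUTv t (e j + ζ • e k) c → t ∈ M}
      zero_mem' := ⟨by simp, fun ζ _ t ht => by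
        have : t = 1 := Subtype.ext (LinearEquiv.ext fun x => by rw [ht.2.2]; simp)
        rw [this]; exact M.one_mem⟩
      add_mem' := fun {a b} ha hb => ⟨by rw [map_add]; linear_combination ha.1 + hb.1, fun ζ hζ t ht => by
        obtain ⟨t₁, ht₁⟩ := S.herm.exists_uTv S.sep ht.1 ha.1
        obtain ⟨t₂, ht₂⟩ := S.herm.exists_uTv S.sep ht.1 hb.1
        rw [uTv_eq ht (uTv_mul ht₁ ht₂)]
        exact M.mul_mem (ha.2 ζ hζ _ ht₁) (hb.2 ζ hζ _ ht₂)⟩
      neg_mem' := fun {a} ha => ⟨by rw [map_neg]; linear_combination -ha.1, fun ζ hζ t ht => by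
        obtain ⟨t₁, ht₁⟩ := S.herm.exists_uTv S.sep ht.1 ha.1
        have h0 : t * t₁ = 1 := Subtype.ext (LinearEquiv.ext fun x => by
          rw [(uTv_mul ht ht₁).2.2, neg_add_cancel, zero_mul, zero_smul, add_zero]; rfl)
        rw [eq_inv_of_mul_eq_one_left h0]
        exact M.inv_mem (ha.2 ζ hζ _ ht₁)⟩ }
  have hc₀Λ : c₀ ∈ Λ := ⟨ht₀.2.1, fun ζ hζ t ht => hall ht₀M ht₀ hζ₀ ζ hζ t ht⟩
  let R : AddSubgroup F :=
    { carrier := {r | ∀ c ∈ Λ, r * c ∈ Λ}
      zero_mem' := fun c _ => by rw [zero_mul]; exact Λ.zero_mem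
      add_mem' := fun {a b} ha hb c hc => by rw [add_mul]; exact Λ.add_mem (ha c hc) (hb c hc)
      neg_mem' := fun {a} ha c hc => by rw [neg_mul]; exact Λ.neg_mem (ha c hc) }
  have hone : (1 : F) ∈ R := fun c hc => by rw [one_mul]; exact hc
  have hrepr : ∀ a b, e.repr (e a) b = if b = a then (1 : F) else 0 := fun a b => by
    rw [← one_smul F (e a), repr_smul_basis]
  -- the norms of the first coordinates of the conjugated centres act on the coefficients
  have hact : ∀ η, η * σ η = 1 → c₀ * (σ η - η) - c₀ * c₀ * (2 - η - σ η) ∈ R := by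
    intro η hη
    have key : (1 + c₀ * (1 - η)) * σ (1 + c₀ * (1 - η)) ∈ R := fun c hc => by
      have hζ₁ : η * ζ₀ * σ (η * ζ₀) = -1 := by
        rw [map_mul]; linear_combination (ζ₀ * σ ζ₀) * hη + hζ₀
      set Q' := e j + (η * ζ₀) • e k with hQ'
      have hQ'0 : B Q' Q' = 0 := by
        rw [S.form_three hij hik hjk]
        simp [hQ', hrepr, hij, hik, hjk, hjk.symm]
        linear_combination (ζ₀ * σ ζ₀) * hη + hζ₀
      obtain ⟨t, ht⟩ := S.herm.exists_uTv S.sep hQ'0 hc.1
      have htM := hc.2 _ hζ₁ t ht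
      have hBQ : B (e j + ζ₀ • e k) Q' = 1 - η := by
        rw [S.form_three hij hik hjk]
        simp [hQ', hrepr, hij, hik, hjk, hjk.symm]
        linear_combination η * hζ₀
      have h1 := ht.conj t₀
      have himg : t₀.1 Q' = (1 + c₀ * (1 - η)) • e j + (η * ζ₀ + c₀ * (1 - η) * ζ₀) • e k := by
        rw [ht₀.2.2, hBQ, hQ']
        module
      rw [himg] at h1
      have hiso := h1.1
      set lam := 1 + c₀ * (1 - η) with hlam
      set mu := η * ζ₀ + c₀ * (1 - η) * ζ₀ with hmu
      have hsum : σ lam * lam + σ mu * mu = 0 := by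
        rw [S.form_three hij hik hjk] at hiso
        simpa [hrepr, hij, hik, hjk, hjk.symm] using hiso
      have hlam0 : lam ≠ 0 := fun e0 => by
        rw [e0, map_zero, mul_zero, zero_add] at hsum
        have hmu0 := S.norm_eq_zero hsum
        have h0 : t₀.1 Q' = 0 := by rw [himg, e0, hmu0, zero_smul, zero_smul, add_zero]
        have h0' := congrArg (fun y => e.repr y j) (t₀.1.map_eq_zero_iff.1 h0)
        simp [hQ', hrepr, hjk] at h0'
      have hσlam : σ lam ≠ 0 := fun e0 => hlam0 (S.sigma_eq_zero e0)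
      have h2 := h1.smul S.conj.invol (inv_ne_zero hlam0)
      rw [smul_add, smul_smul, smul_smul, inv_mul_cancel₀ hlam0, one_smul] at h2
      have hcoef : c / (lam⁻¹ * σ lam⁻¹) = lam * σ lam * c := by
        rw [map_inv₀]; field_simp
      rw [hcoef] at h2
      have hζ₂ : lam⁻¹ * mu * σ (lam⁻¹ * mu) = -1 := by
        rw [map_mul, map_inv₀]
        field_simp
        linear_combination hsum
      refine ⟨h2.2.1, fun ζ hζ t' ht' =>
        hall (M.mul_mem (M.mul_mem ht₀M htM) (M.inv_mem ht₀M)) h2 hζ₂ ζ hζ t' ht'⟩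
    have h := R.sub_mem key hone
    convert h using 1
    rw [map_add, map_mul, map_sub, map_one]
    linear_combination (-(1 - σ η) - c₀ * (1 - η) * (1 - σ η)) * ht₀.2.1 + (c₀ * c₀) * hη
  -- the multiplier group contains the fixed field
  have hfix : ∀ r, σ r = r → r ∈ R := by
    intro r hr
    by_cases h2 : (2 : F) = 0
    · have hcf : σ c₀ = c₀ := by linear_combination ht₀.2.1 - c₀ * h2
      have hk : c₀ + c₀ * c₀ ≠ 0 := fun e0 => by
        rcases mul_eq_zero.1 (show c₀ * (1 + c₀) = 0 by linear_combination e0) with e1 | e1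
        · exact hc₀0 e1
        · exact hc₀1 h2 (by linear_combination e1 - h2)
      refine fix_le_of_half S.conj R (S := (trS σ).image fun τ => (c₀ + c₀ * c₀) * τ) ?_ ?_ ?_ hr
      · intro y hy
        obtain ⟨τ, hτ, rfl⟩ := Finset.mem_image.1 hy
        exact mem_fixS.2 (by rw [map_mul, map_add, map_mul, hcf, mem_fixS.1 (trS_subset S.conj hτ)])
      · intro y hy
        obtain ⟨τ, hτ, rfl⟩ := Finset.mem_image.1 hy
        obtain ⟨η, hη, rfl⟩ := mem_trS.1 hτ
        convert hact η hη using 1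
        linear_combination (c₀ * η + c₀ * c₀) * h2
      · rw [Finset.card_image_of_injective _ (mul_right_injective₀ hk)]
        have := card_trS S.conj
        omega
    · have hσc : σ c₀ = -c₀ := by linear_combination ht₀.2.1
      refine fix_le_of_half S.conj R (S := (circ σ).image fun η => 2 * c₀ * (η - σ η)) ?_ ?_ ?_ hr
      · intro y hy
        obtain ⟨η, hη, rfl⟩ := Finset.mem_image.1 hy
        exact mem_fixS.2 (by rw [map_mul, map_mul, map_sub, map_ofNat, hσc, S.conj.invol]; ring)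
      · intro y hy
        obtain ⟨η, hη, rfl⟩ := Finset.mem_image.1 hy
        rw [mem_circ] at hη
        have h3 := R.sub_mem (hact (σ η) (S.norm_sigma hη)) (hact η hη)
        convert h3 using 1
        rw [S.conj.invol]
        ring
      · have hb : (circ σ).card ≤ 2 * ((circ σ).image fun η => 2 * c₀ * (η - σ η)).card := by
          refine Finset.card_le_mul_card_image _ _ fun y _ => ?_
          by_cases hne : ({x ∈ circ σ | 2 * c₀ * (x - σ x) = y}).Nonempty
          · obtain ⟨x, hx⟩ := hne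
            simp only [Finset.mem_filter, mem_circ] at hx
            refine le_trans (Finset.card_le_card (t := {x, -σ x}) fun z hz => ?_) Finset.card_le_two
            simp only [Finset.mem_filter, mem_circ] at hz
            have h' : z - σ z = x - σ x := mul_left_cancel₀ (mul_ne_zero h2 hc₀0) (hz.2.trans hx.2.symm)
            have h3 : (z - x) * (z + σ x) = 0 := by linear_combination z * h' + hz.1 - hx.1
            simp only [Finset.mem_insert, Finset.mem_singleton]
            exact (mul_eq_zero.1 h3).imp sub_eq_zero.1 eq_neg_of_add_eq_zero_left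
          · rw [Finset.not_nonempty_iff_eq_empty.1 hne]; simp
        have := card_circ S.conj
        omega
  have hfull : ∀ c, c + σ c = 0 → c ∈ Λ := fun c hc => by
    have hr : σ (c / c₀) = c / c₀ := by
      rw [map_div₀, eq_neg_of_add_eq_zero_right hc, eq_neg_of_add_eq_zero_right ht₀.2.1, neg_div_neg_eq]
    have := hfix _ hr c₀ hc₀Λ
    rwa [div_mul_cancel₀ _ hc₀0] at this
  have hax : ∀ ζ, ζ * σ ζ = -1 → IsTAxis M (e j + ζ • e k) := fun ζ hζ t c ht => (hfull c ht.2.1).2 ζ hζ t ht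
  -- transport to all vectors of support two
  by_cases hv0 : v = 0
  · rw [hv0]; exact S.herm.isTAxis_zero M
  obtain ⟨a, ha⟩ : ∃ a, e.repr v a ≠ 0 := by
    by_contra! hall'
    exact hv0 (e.repr.injective (Finsupp.ext fun a => by simpa using hall' a))
  obtain ⟨b, hba, hb⟩ : ∃ b, b ≠ a ∧ e.repr v b ≠ 0 := by
    by_contra! hall'
    have hveq : v = e.repr v a • e a := supp_single fun x hx => by
      rw [mem_supp] at hx
      exact Finset.mem_singleton.2 (by_contra fun hne => hx (hall' x hne))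
    rw [hveq, S.herm.smul_self, S.on, if_pos rfl, mul_one, mul_comm] at hv
    exact ha (S.norm_eq_zero hv)
  obtain ⟨d, hda, hdb⟩ := exists_other a b
  have hd : e.repr v d = 0 := by
    by_contra hd0
    have hcard : ({a, b, d} : Finset (Fin 3)).card = 3 :=
      Finset.card_eq_three.2 ⟨a, b, d, hba.symm, hda.symm, hdb.symm, rfl⟩
    have := Finset.card_le_card (show ({a, b, d} : Finset (Fin 3)) ⊆ supp e v by
      simp [Finset.insert_subset_iff, mem_supp, ha, hb, hd0])
    omega
  set ζ := e.repr v b / e.repr v a with hζdef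
  have hveq : v = e.repr v a • (e a + ζ • e b) := by
    rw [smul_add, smul_smul, hζdef, mul_div_cancel₀ _ ha]
    conv_lhs => rw [S.eq_of_coords hba.symm hda.symm hdb.symm v, hd, zero_smul, add_zero]
  have hζ : ζ * σ ζ = -1 := by
    rw [hveq, S.herm.smul_self, mul_eq_zero] at hv
    have hv' := hv.resolve_left (mul_ne_zero ha fun e0 => ha (S.sigma_eq_zero e0))
    rw [S.form_three hba.symm hda.symm hdb.symm] at hv'
    simp [hrepr, hba, hba.symm, hda, hdb] at hv'
    linear_combination hv'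
  obtain ⟨π, hπj, hπk⟩ := exists_perm_three j k a b hjk hba.symm
  obtain ⟨m, hm, d', hd', hme⟩ := S.exists_mono π (fun _ => 1) (fun _ => by simp) i
  have h1 := (hax ζ hζ).map hm
  rw [map_add, map_smul, hme, hme, hπj, hπk, hd' j hij.symm, hd' k hik.symm, one_smul, one_smul] at h1
  rw [hveq]
  exact h1.smul S.conj.invol ha

end TSetting

end CfsgLib.Classical.GeoThree.SU
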