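import Cfsg.Agent.Lib.Classical.GeoThree.SU.Frame.Even
import Cfsg.Agent.Lib.Classical.GeoThree.SU.Frame.Fix
import Cfsg.Agent.Lib.Classical.UFrameMax.Main

/-!
# Frame stabilisers are maximal in `SU_3` for `q ≠ 5`
-/

set_option autoImplicit false
set_option linter.unusedSectionVars false
set_option linter.unusedSimpArgs false

open Module
open CfsgLib.Classical CfsgLib.Classical.UFrameMax

namespace CfsgLib.Classical.GeoThree.SU

variable {F : Type*} [Field F] [DecidableEq F] [Fintype F] {V : Type*} [AddCommGroup V] [Module F V]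
  [FiniteDimensional F V] {σ : F →+* F} {B : V →ₛₗ[σ] V →ₗ[F] F}

namespace TSetting

variable {e : Basis (Fin 3) F V} {M : Subgroup (isomGroup B)} (S : TSetting B e M)
include S

/-- Axes of full support, from those of support two. -/
theorem axes_three (h2 : ∀ v, B v v = 0 → (supp e v).card ≤ 2 → IsTAxis M v) {v : V} (hv : B v v = 0)
    (hs : (supp e v).card ≤ 3) : IsTAxis M v := by
  classical
  rcases Nat.lt_or_ge (supp e v).card 3 with h3 | h3
  · exact h2 v hv (by omega)
  obtain ⟨a, b, c, hab, hac, hbc, hsv⟩ := Finset.card_eq_three.1 (show (supp e v).card = 3 by omega)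
  set P := cspan e {a, b} with hP
  have hPn : NondegOn B P := S.nondeg_cspan _
  set u := part e {a, b} v with hu
  set w := e.repr v c • e c with hw
  have hvuw : v = u + w := by
    refine e.repr.injective (Finsupp.ext fun k => ?_)
    rw [map_add, Finsupp.add_apply, hu, hw, repr_part, repr_smul_basis]
    by_cases hk : k ∈ supp e v
    · rw [hsv] at hk
      simp only [Finset.mem_insert, Finset.mem_singleton] at hk
      rcases hk with rfl | rfl | rfl <;> simp [hac, hbc, Ne.symm hac, Ne.symm hbc]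
    · rw [notMem_supp.1 hk]
      rcases eq_or_ne k c with rfl | hkc
      · simp [notMem_supp.1 hk]
      · simp [hkc]
  have huP : u ∈ P := mem_cspan.2 (supp_part_subset _ _)
  have hwP : w ∈ perp B P := S.mem_perp_cspan fun k hk => by
    rw [hw, repr_smul_basis, if_neg]
    rintro rfl
    simp at hk
    rcases hk with h | h
    · exact hac h.symm
    · exact hbc h.symm
  have hc0 : e.repr v c ≠ 0 := mem_supp.1 (by simp [hsv])
  have huu : B u u = -(e.repr v c * σ (e.repr v c)) := by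
    have h1 := hv
    rw [hvuw, S.herm.add_self, mem_perp.1 hwP u huP, hw, S.herm.smul_self, S.on] at h1
    simp at h1
    linear_combination h1
  have huu0 : B u u ≠ 0 := by
    rw [huu, neg_ne_zero]; exact mul_ne_zero hc0 fun h => hc0 (S.sigma_eq_zero h)
  obtain ⟨ξ, hξ⟩ := S.conj.exists_norm_eq (a := B u u) (S.herm.self_fixed u)
  have hξP : ξ • e a ∈ P := P.smul_mem _ (basis_mem_cspan (by simp))
  have hfr : finrank F P = 2 := by rw [hP, finrank_cspan, Finset.card_pair hab]
  obtain ⟨t, ⟨ht, -⟩, htx⟩ := (S.herm.restrict P).trans_plane (restrictForm_separatingRight hPn) (P := ⊤)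
    (nondegOn_iff.2 fun x _ hx => restrictForm_separatingRight hPn x fun y => hx y trivial)
    (by rw [finrank_top, hfr]) (x := ⟨u, huP⟩) (y := ⟨ξ • e a, hξP⟩) trivial trivial
    (by simp [map_smulₛₗ, S.on, ← hξ, mul_comm]) huu0
  let φ : isomGroup (restrictForm B P) →* isomGroup B :=
    (isomSum hPn.isCompl (fun _ hw' _ hu' => mem_perp.1 hu' _ hw')
      (fun _ hw' _ hu' => orth_symm S.herm.isRefl hw' hu')).comp (MonoidHom.inl _ _)
  have hφ : ∀ g, g ∈ tGroup (restrictForm B P) → φ g ∈ M := by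
    intro g hg
    refine (Subgroup.closure_le (K := M.comap φ)).2 ?_ hg
    rintro r ⟨y, k, hr⟩
    refine h2 (y : V) hr.1 (le_trans (Finset.card_le_card (mem_cspan.1 y.2)) Finset.card_le_two) _ k
      ⟨hr.1, hr.2.1, fun x => ?_⟩
    obtain ⟨a', b', rfl⟩ := exists_add_eq hPn.isCompl x
    change sumEquiv hPn.isCompl r.1 _ _ = _
    rw [sumEquiv_apply, hr.2.2, map_add, mem_perp.1 b'.2 _ y.2, add_zero]
    simp only [Submodule.coe_add, Submodule.coe_smul, restrictForm_apply]
    change _ + (b' : V) = _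
    abel
  have himg : (φ t).1 v = ξ • e a + w := by
    rw [hvuw]
    change sumEquiv hPn.isCompl t.1 _ (((⟨u, huP⟩ : P) : V) + ((⟨w, hwP⟩ : perp B P) : V)) = _
    rw [sumEquiv_apply]
    exact congrArg₂ (· + ·) (congrArg Subtype.val htx) rfl
  have hax := h2 ((φ t).1 v) ((isomGroup_apply _ v v).trans hv) (by
    rw [himg]
    refine le_trans (Finset.card_le_card (t := {a, c}) (supp_subset_iff.2 fun k hk => ?_)) Finset.card_le_two
    simp only [Finset.mem_insert, Finset.mem_singleton, not_or] at hk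
    rw [hw, map_add, Finsupp.add_apply, repr_smul_basis, repr_smul_basis, if_neg hk.1, if_neg hk.2, add_zero])
  have := hax.map (M.inv_mem (hφ t ht))
  rwa [show ((φ t)⁻¹ : isomGroup B).1 ((φ t).1 v) = v from (φ t).1.symm_apply_apply v] at this

theorem sIsom_le_frame (h5 : (fixS σ).card ≠ 5) {g : isomGroup B} (hg : g ∈ M) (hgm : ¬ Mono e g) : sIsom B ≤ M := by
  by_cases hL : ∀ h ∈ M, ∀ i, ∀ l : F, h.1 (e i) = l • e i → Mono e h
  · refine absurd ?_ hgm
    have h3 : 3 ≤ (fixS σ).card := by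
      obtain ⟨t, htf, ht0, ht1⟩ := S.big
      refine le_trans (Finset.card_eq_three.2 ⟨0, 1, t, zero_ne_one, Ne.symm ht0, Ne.symm ht1, rfl⟩).ge
        (Finset.card_le_card ?_)
      simp [Finset.insert_subset_iff, htf]
    have h6 := exists_circ_six S.conj (by omega) h5
    by_cases h2 : (2 : F) = 0
    · exact S.mono_of_no_fix_even hL h6 h2 hg
    · exact S.mono_of_no_fix_odd hL h6 h2 h5 hg
  · push Not at hL
    obtain ⟨h, hM, i, l, hi, hh⟩ := hL
    exact S.herm.sIsom_le_of_axes_big S.sep S.big fun v hv =>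
      S.axes_three (fun u hu hs => S.axes_two_of_fix hM hi hh hu hs) hv (by simpa using Finset.card_le_univ (supp e v))

end TSetting

/-- An element of determinant one moving a frame. -/
theorem exists_not_mono (h : IsHermitian B) (hN : B.SeparatingRight) (hb : BigFixed σ) {e : Basis (Fin 3) F V}
    (he : ∀ i j, B (e i) (e j) = if i = j then 1 else 0) : ∃ g : isomGroup B, idet B g = 1 ∧ ¬ Mono e g := by
  obtain ⟨c₀, hc₀0, hc₀⟩ := h.conj.exists_trace_zero
  obtain ⟨t, htf, ht0, ht1⟩ := hb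
  obtain ⟨c, hc, hc0, hc1⟩ : ∃ c : F, c + σ c = 0 ∧ c ≠ 0 ∧ 1 + c ≠ 0 := by
    by_cases h1 : 1 + c₀ = 0
    · refine ⟨c₀ * t, by rw [map_mul, htf]; linear_combination t * hc₀, mul_ne_zero hc₀0 ht0, fun e' => ht1 ?_⟩
      linear_combination (t : F) * h1 - e'
    · exact ⟨c₀, hc₀, hc₀0, h1⟩
  obtain ⟨ζ, hζ⟩ := h.conj.exists_norm_eq (a := -1) (by rw [map_neg, map_one])
  have hζ0 : ζ ≠ 0 := fun h0 => by simp [h0] at hζ
  set v := e 0 + ζ • e 1 with hv
  have hζ' : σ ζ * ζ = -1 := by rw [mul_comm]; exact hζ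
  have hvv : B v v = 0 := by simp [hv, map_smulₛₗ, he, hζ']
  have hva : B v (e 0) = 1 := by simp [hv, map_smulₛₗ, he]
  obtain ⟨g, hg⟩ := h.exists_uTv hN hvv hc
  refine ⟨g, h.idet_uTv hg, fun hp => ?_⟩
  have hcard := hp.card_le 0
  have hsub : ({0, 1} : Finset (Fin 3)) ⊆ supp e (g.1 (e 0)) := fun k hk => by
    simp only [Finset.mem_insert, Finset.mem_singleton] at hk
    rw [mem_supp, hg.2.2, hva, mul_one]
    rcases hk with rfl | rfl
    · simp [hv, Finsupp.single_apply, hc1]
    · simp [hv, Finsupp.single_apply, hc0, hζ0]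
  have := (Finset.card_le_card hsub).trans hcard
  simp at this

/-- Stabilisers of orthonormal frames. -/
theorem frame_maximal_three {F : Type*} [Field F] [Fintype F] {q : ℕ} (hF : Fintype.card F = q ^ 2) (hq : 3 ≤ q)
    (h5 : q ≠ 5) {D : Fin 3 → Submodule F (Fin 3 → F)}
    (hD : Cfsg.Geo.IsNondegenerateMDecomposition (Cfsg.hermForm 3 F q) 1 D) :
    Cfsg.Geo.IsMaximalIn (Cfsg.GU 3 F q ⊓ Cfsg.Geo.specialLinear (Fin 3) F)
      (Cfsg.Geo.decompositionStabilizer D ⊓ (Cfsg.GU 3 F q ⊓ Cfsg.Geo.specialLinear (Fin 3) F)) := by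
  classical
  obtain ⟨σ, hσ, hc⟩ := exists_frob hF
  have h := stdHerm_isHermitian hc 3
  have hN := stdHerm_sepRight (σ := σ) 3
  have hd := udecomp_of hσ hc hD
  have hb := bigFixed_of_three hF hσ hc hq
  obtain ⟨e, he, heD⟩ := exists_line_basis hd h rfl
  obtain ⟨g₀, hg₀, hg₀m⟩ := exists_not_mono h hN hb he
  refine gu_isMaximalIn_special hσ _ (Perms D) (mem_stab_iff_perms D)
    ⟨g₀, hg₀, fun hp => hg₀m ((mono_iff hd rfl heD g₀).2 hp)⟩ fun M hle hM g hg hgP => ?_
  have S : TSetting (stdHerm σ 3) e M :=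
    ⟨h, hN, he, hb, hle, fun g hgd hgm => hM g hgd ((mono_iff hd rfl heD g).1 hgm)⟩
  have h3 : q = (fixS σ).card := Nat.pow_left_injective two_ne_zero (hF.symm.trans (card_fix_sq hc))
  exact S.sIsom_le_frame (h3 ▸ h5) hg fun hgm => hgP ((mono_iff hd rfl heD g).1 hgm)

end CfsgLib.Classical.GeoThree.SU
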