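import Cfsg.Agent.Lib.Classical.GeoThree.SU.Frame.Basic
import Cfsg.Agent.Lib.Classical.GeoThree.SU.Frame.Phase

/-!
# Non-monomial elements have no zero entry
-/

set_option autoImplicit false
set_option linter.unusedSectionVars false
set_option linter.unusedSimpArgs false

open Module
open CfsgLib.Classical CfsgLib.Classical.UFrameMax

namespace CfsgLib.Classical.GeoThree.SU

variable {F : Type*} [Field F] [DecidableEq F] [Fintype F] {V : Type*} [AddCommGroup V] [Module F V]
  [FiniteDimensional F V] {σ : F →+* F} {B : V →ₛₗ[σ] V →ₗ[F] F}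

namespace TSetting

variable {e : Basis (Fin 3) F V} {M : Subgroup (isomGroup B)} (S : TSetting B e M)
include S

theorem repr_basis (a b : Fin 3) : e.repr (e a) b = if b = a then (1 : F) else 0 := by
  rw [← one_smul F (e a), repr_smul_basis]

/-- A multiple of a quasi-reflection at a frame vector. -/
theorem exists_scalar_qr (k : Fin 3) {l : F} (hl : l * σ l = 1) :
    ∃ D ∈ M, ∀ u, D.1 u = l • u + ((σ l * σ l - l) * e.repr u k) • e k := by
  obtain ⟨i, hik, -⟩ := exists_other k k
  obtain ⟨j, hji, hjk⟩ := exists_other i k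
  obtain ⟨D, hD, -, hi, hj, hk⟩ := S.exists_diag_mem hji.symm hik hjk (a := l) (b := l) (c := σ l * σ l) hl hl
    (by rw [map_mul, S.conj.invol]; linear_combination (σ l * l + 1) * hl)
    (by linear_combination (l * σ l + 1) * hl)
  refine ⟨D, hD, fun u => ?_⟩
  conv_lhs => rw [S.eq_of_coords hji.symm hik hjk u]
  conv_rhs => arg 1; rw [S.eq_of_coords hji.symm hik hjk u]
  rw [map_add, map_add, map_smul, map_smul, map_smul, hi, hj, hk]
  module

/-- Its conjugates. -/
theorem conj_scalar_qr {D g : isomGroup B} {k : Fin 3} {l μ : F}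
    (hD : ∀ u, D.1 u = l • u + (μ * e.repr u k) • e k) (u : V) :
    (g * D * g⁻¹).1 u = l • u + (μ * B (g.1 (e k)) u) • g.1 (e k) := by
  obtain ⟨y, rfl⟩ := g.1.surjective u
  change g.1 (D.1 (g.1.symm (g.1 y))) = _
  rw [LinearEquiv.symm_apply_apply, hD, map_add, map_smul, map_smul, isomGroup_apply, S.coord]

variable (hL : ∀ h ∈ M, ∀ i, ∀ l : F, h.1 (e i) = l • e i → Mono e h)
  (h6 : ∃ l : F, l * σ l = 1 ∧ l ^ 6 ≠ 1)
include hL h6

theorem no_zero {g : isomGroup B} (hg : g ∈ M) (hgm : ¬ Mono e g) (a k : Fin 3) :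
    e.repr (g.1 (e a)) k ≠ 0 := fun hk => by
  obtain ⟨l, hl, hl6⟩ := h6
  have hl0 := norm_ne_zero_of hl
  obtain ⟨D, hDM, hD⟩ := S.exists_scalar_qr k hl
  set μ := σ l * σ l - l with hμ
  have hμ0 : μ ≠ 0 := fun e0 => hl6 (by
    have h3 : l ^ 3 = 1 := by linear_combination (-(l * l)) * e0 + (l * σ l + 1) * hl + (l * l) * hμ
    linear_combination (l ^ 3 + 1) * h3)
  have hgi := M.inv_mem hg
  set y := g⁻¹ * D * g with hy
  set z := (g⁻¹ : isomGroup B).1 (e k) with hz
  have hyu : ∀ u, y.1 u = l • u + (μ * B z u) • z := fun u => by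
    have h := S.conj_scalar_qr (g := g⁻¹) hD u
    rwa [inv_inv] at h
  have hyM : y ∈ M := M.mul_mem (M.mul_mem hgi hDM) hg
  have hza : e.repr z a = 0 := by
    have h1 : B z (e a) = 0 := by
      rw [← isomGroup_apply g, show g.1 z = e k from g.1.apply_symm_apply _, S.coord, hk]
    rw [S.coord'] at h1
    exact S.sigma_eq_zero h1
  have hmono : Mono e y := hL _ hyM a l (by
    rw [hyu, S.coord', hza, map_zero, mul_zero, zero_smul, add_zero])
  obtain ⟨b, hba, -⟩ := exists_other a a
  obtain ⟨c, hca, hcb⟩ := exists_other a b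
  have key : ∀ {b c : Fin 3}, b ≠ a → c ≠ a → c ≠ b → e.repr z c = 0 → False := by
    intro b c hba hca hcb hzc
    refine hgm (S.mono_of_inv (S.mono_of_supp_one hL hgi (i := k) (j := b) (l := e.repr z b) ?_))
    change z = _
    conv_lhs => rw [S.eq_of_coords hba.symm hca.symm hcb.symm z, hza, hzc, zero_smul, zero_smul, zero_add, add_zero]
  have hzb : e.repr z b ≠ 0 := key hca hba hcb.symm
  have hzc : e.repr z c ≠ 0 := key hba hca hcb
  obtain ⟨x, f, hx⟩ := hmono b
  rw [hyu, S.coord'] at hx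
  have hb := congrArg (fun v => e.repr v b) hx
  have hc := congrArg (fun v => e.repr v c) hx
  simp [S.repr_basis, hcb, Finsupp.single_apply, mul_ite] at hb hc
  by_cases hxb : x = b
  · subst hxb
    simp [hcb, Ne.symm hcb] at hc
    rcases hc with (h | h) | h
    · exact hμ0 h
    · exact hzb h
    · exact hzc h
  · simp [hxb, Ne.symm hxb] at hb
    -- the diagonal entry vanishes
    have hb' := congrArg σ hb
    simp only [map_add, map_mul, map_zero, S.conj.invol, hμ, map_sub] at hb'
    set νb := σ (e.repr z b) * e.repr z b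
    have e1 : l + μ * νb = 0 := by linear_combination hb
    have e2 : σ l + σ μ * νb = 0 := by
      rw [hμ, map_sub, map_mul, S.conj.invol]
      linear_combination hb'
    have e3 : σ l * μ - l * σ μ = 0 := by linear_combination μ * e2 - σ μ * e1
    rw [hμ, map_sub, map_mul, S.conj.invol] at e3
    exact hl6 (by linear_combination (-(l ^ 3)) * e3 + ((l * σ l) ^ 2 + l * σ l + 1) * hl)

/-- Some images of a two-term vector have no zero coordinate. -/
theorem exists_full_phases {g : isomGroup B} (hg : g ∈ M) (hgm : ¬ Mono e g) {a b : Fin 3} :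
    ∃ T : Finset F, (∀ θ ∈ T, θ * σ θ = 1 ∧ ∀ c, e.repr (g.1 (e a + θ • e b)) c ≠ 0) ∧
      (circ σ).card ≤ T.card + 3 := by
  refine ⟨(circ σ).filter fun θ => ∀ c, e.repr (g.1 (e a + θ • e b)) c ≠ 0, fun θ hθ =>
    ⟨mem_circ.1 (Finset.mem_filter.1 hθ).1, (Finset.mem_filter.1 hθ).2⟩, ?_⟩
  set N := (Finset.univ : Finset (Fin 3)).image fun c => -(e.repr (g.1 (e a)) c / e.repr (g.1 (e b)) c)
  have hsub : circ σ ⊆ ((circ σ).filter fun θ => ∀ c, e.repr (g.1 (e a + θ • e b)) c ≠ 0) ∪ N := by
    intro θ hθ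
    by_cases h : ∀ c, e.repr (g.1 (e a + θ • e b)) c ≠ 0
    · exact Finset.mem_union_left _ (Finset.mem_filter.2 ⟨hθ, h⟩)
    · push Not at h
      obtain ⟨c, hc⟩ := h
      refine Finset.mem_union_right _ (Finset.mem_image.2 ⟨c, Finset.mem_univ _, ?_⟩)
      rw [map_add, map_smul, map_add, map_smul, Finsupp.add_apply, Finsupp.smul_apply, smul_eq_mul] at hc
      have := S.no_zero hL h6 hg hgm b c
      field_simp
      linear_combination -hc
  have h1 := (Finset.card_le_card hsub).trans (Finset.card_union_le _ _)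
  have h2 : N.card ≤ 3 := Finset.card_image_le.trans (by simp)
  omega

end TSetting

end CfsgLib.Classical.GeoThree.SU
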