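import Cfsg.Agent.Lib.Classical.GeoThree.SU.Frame.NoFix

/-!
# Overgroups of the monomial group in odd characteristic

Two involutions which are not conjugate commute with a common involution; this forces all images of the
vectors fixed by monomial involutions to have coordinates of equal length.
-/

set_option autoImplicit false
set_option linter.unusedSectionVars false
set_option linter.unusedSimpArgs false

open Module
open CfsgLib.Classical CfsgLib.Classical.UFrameMax

namespace CfsgLib.Classical.GeoThree.SU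

variable {F : Type*} [Field F] [DecidableEq F] [Fintype F] {V : Type*} [AddCommGroup V] [Module F V]
  [FiniteDimensional F V] {σ : F →+* F} {B : V →ₛₗ[σ] V →ₗ[F] F}

namespace TSetting

variable {e : Basis (Fin 3) F V} {M : Subgroup (isomGroup B)} (S : TSetting B e M)
include S

/-- The involution of a monomial group at `e a + θ e b`. -/
theorem exists_swap_inv {a b c : Fin 3} (hab : a ≠ b) (hac : a ≠ c) (hbc : b ≠ c) {θ : F} (hθ : θ * σ θ = 1) :
    ∃ w ∈ M, Mono e w ∧ w.1 (e a) = θ • e b ∧ w.1 (e b) = σ θ • e a ∧ w.1 (e c) = -e c ∧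
      ∀ x, w.1 x = B (e a + θ • e b) x • (e a + θ • e b) - x := by
  by_cases h2 : (2 : F) = 0
  · set P := e a + θ • e b with hP
    have hPP : B P P = 0 := by
      rw [S.form_three hab hac hbc]
      simp [hP, S.repr_basis, hab, hab.symm, hac, hbc]
      linear_combination hθ + h2
    obtain ⟨t, ht⟩ := S.herm.exists_uTv S.sep (c := 1) hPP (by rw [map_one]; linear_combination h2)
    have hB : ∀ x, B P x = e.repr x a + σ θ * e.repr x b := fun x => by
      rw [hP, map_add, map_smulₛₗ, LinearMap.add_apply, LinearMap.smul_apply, smul_eq_mul, S.coord, S.coord]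
    have hneg : ∀ x : V, -x = x := fun x => by
      rw [← one_smul F x, ← neg_smul]; congr 1; linear_combination -h2
    have hta : t.1 (e a) = θ • e b := by
      rw [ht.2.2, hB, hP]; simp [S.repr_basis, hab.symm, Finsupp.single_apply, hab]
      match_scalars
      · linear_combination h2
      · ring
    have htb : t.1 (e b) = σ θ • e a := by
      rw [ht.2.2, hB, hP]; simp [S.repr_basis, hab, Finsupp.single_apply, hab.symm]
      match_scalars
      · linear_combination hθ + h2
      · ring
    have htc : t.1 (e c) = -e c := by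
      rw [ht.2.2, hB, hneg]; simp [S.repr_basis, hac, hbc, hac.symm, hbc.symm, Finsupp.single_apply]
    have hm : Mono e t := fun x => by
      rcases cases_three hab hac hbc x with rfl | rfl | rfl
      exacts [⟨_, _, hta⟩, ⟨_, _, htb⟩, ⟨x, -1, by rw [htc, neg_one_smul]⟩]
    refine ⟨t, S.mem t (S.herm.idet_uTv ht) hm, hm, hta, htb, htc, fun x => ?_⟩
    rw [ht.2.2, one_mul, sub_eq_add_neg, hneg, add_comm]
  set P := e a + θ • e b with hP
  have hPP : B P P = 2 := by
    rw [S.form_three hab hac hbc]
    simp [hP, S.repr_basis, hab, hab.symm, hac, hbc]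
    linear_combination hθ
  obtain ⟨r, hr, hrd⟩ := S.herm.exists_qr S.sep (z := P) (by rw [hPP]; exact h2) (l := -1) (by simp)
  obtain ⟨m, hm, hmd⟩ := S.exists_diag (fun _ => -1) fun _ => by simp
  have hmx : ∀ x, m.1 x = -x := fun x => by
    have : (m.1 : V →ₗ[F] V) = -LinearMap.id := e.ext fun i => by simp [hm]
    simpa using LinearMap.congr_fun this x
  have hw : ∀ x, (m * r).1 x = B P x • P - x := fun x => by
    change m.1 (r.1 x) = _
    rw [hmx, hr, hPP, neg_add, ← neg_smul, show -((-1 - 1) / 2 * B P x) = B P x by field_simp; ring]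
    abel
  have hB : ∀ x, B P x = e.repr x a + σ θ * e.repr x b := fun x => by
    rw [hP, map_add, map_smulₛₗ, LinearMap.add_apply, LinearMap.smul_apply, smul_eq_mul, S.coord, S.coord]
  have hta : (m * r).1 (e a) = θ • e b := by
    rw [hw, hB, hP]; simp [S.repr_basis, hab.symm, Finsupp.single_apply, hab]
  have htb : (m * r).1 (e b) = σ θ • e a := by
    rw [hw, hB, hP]; simp [S.repr_basis, hab, Finsupp.single_apply, hab.symm]
    match_scalars
    · ring
    · linear_combination hθ
  have htc : (m * r).1 (e c) = -e c := by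
    rw [hw, hB]; simp [S.repr_basis, hac, hbc, hac.symm, hbc.symm, Finsupp.single_apply]
  have hmono : Mono e (m * r) := fun x => by
    rcases cases_three hab hac hbc x with rfl | rfl | rfl
    exacts [⟨_, _, hta⟩, ⟨_, _, htb⟩, ⟨x, -1, by rw [htc, neg_one_smul]⟩]
  refine ⟨m * r, S.mem _ ?_ hmono, hmono, hta, htb, htc, hw⟩
  rw [map_mul, hmd, hrd, Fin.prod_univ_three]
  ring

variable (hL : ∀ h ∈ M, ∀ i, ∀ l : F, h.1 (e i) = l • e i → Mono e h)
  (h6 : ∃ l : F, l * σ l = 1 ∧ l ^ 6 ≠ 1)
include hL h6

/-- Coordinates of equal length. -/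
theorem norms_equal (h2 : (2 : F) ≠ 0) {g : isomGroup B} (hg : g ∈ M) (hgm : ¬ Mono e g) {a b : Fin 3}
    (hab : a ≠ b) {θ : F} (hθ : θ * σ θ = 1) (hfull : ∀ c, e.repr (g.1 (e a + θ • e b)) c ≠ 0)
    {i j k : Fin 3} (hij : i ≠ j) (hik : i ≠ k) (hjk : j ≠ k) :
    σ (e.repr (g.1 (e a + θ • e b)) i) * e.repr (g.1 (e a + θ • e b)) i =
      σ (e.repr (g.1 (e a + θ • e b)) j) * e.repr (g.1 (e a + θ • e b)) j := by
  obtain ⟨c, hca, hcb⟩ := exists_other a b
  obtain ⟨w, hwM, -, -, -, -, hw⟩ := S.exists_swap_inv hab hca.symm hcb.symm hθ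
  set P := e a + θ • e b with hP
  set Y := g.1 P with hY
  have hPP : B P P = 2 := by
    rw [S.form_three hab hca.symm hcb.symm]
    simp [hP, S.repr_basis, hab, hab.symm, hca, hcb]
    linear_combination hθ
  have hYY : B Y Y = 2 := by rw [hY, isomGroup_apply, hPP]
  have hw2 : w * w = 1 := Subtype.ext (LinearEquiv.ext fun x => by
    change w.1 (w.1 x) = x
    rw [hw, hw, map_sub, map_smul, hPP, smul_eq_mul]
    module)
  set w' := g * w * g⁻¹ with hw'
  have hw'M : w' ∈ M := M.mul_mem (M.mul_mem hg hwM) (M.inv_mem hg)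
  have hw'2 : w' * w' = 1 := by
    rw [hw']
    calc g * w * g⁻¹ * (g * w * g⁻¹) = g * (w * w) * g⁻¹ := by group
      _ = 1 := by rw [hw2]; group
  have hw'x : ∀ x, w'.1 x = B Y x • Y - x := fun x => by
    obtain ⟨y, rfl⟩ := g.1.surjective x
    change g.1 (w.1 (g.1.symm (g.1 y))) = _
    rw [LinearEquiv.symm_apply_apply, hw, map_sub, map_smul, hY, isomGroup_apply]
  obtain ⟨s, hsM, -, hsk, hsi, hsj⟩ := S.exists_diag_mem hik.symm hjk.symm hij (a := 1) (b := -1) (c := -1)
    (by simp) (by simp) (by simp) (by ring)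
  rw [one_smul] at hsk
  have hs : ∀ x, e.repr (s.1 x) k = e.repr x k ∧ e.repr (s.1 x) i = -e.repr x i ∧
      e.repr (s.1 x) j = -e.repr x j := fun x => by
    rw [S.eq_of_coords hij hik hjk x]
    simp [hsk, hsi, hsj, S.repr_basis, hij, hik, hjk, hij.symm, hik.symm, hjk.symm, Finsupp.single_apply]
  have hs2 : s * s = 1 := S.isom_ext fun x => by
    change s.1 (s.1 (e x)) = e x
    rcases cases_three hij hik hjk x with rfl | rfl | rfl
    · simp [hsi]
    · simp [hsj]
    · simp [hsk]
  have := finite_isom (B := B)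
  rcases two_involutions hs2 hw'2 hsM hw'M with ⟨u, huM, hu⟩ | ⟨z, hzM, hz1, hz2, hzs, hzw⟩
  · -- the two involutions are not conjugate
    exfalso
    set h := u * g with hh
    have hhM : h ∈ M := M.mul_mem huM hg
    have hfix : s.1 (h.1 P) = h.1 P := by
      rw [← hu]
      change u.1 (w'.1 (u.1.symm (u.1 (g.1 P)))) = u.1 (g.1 P)
      rw [LinearEquiv.symm_apply_apply, ← hY, hw'x, hYY, two_smul, add_sub_cancel_right]
    obtain ⟨hi0, hj0⟩ : e.repr (h.1 P) i = 0 ∧ e.repr (h.1 P) j = 0 := by
      obtain ⟨-, h1, h3⟩ := hs (h.1 P)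
      rw [hfix] at h1 h3
      exact ⟨mul_left_cancel₀ h2 (by linear_combination h1), mul_left_cancel₀ h2 (by linear_combination h3)⟩
    have hPk : h.1 P = e.repr (h.1 P) k • e k := by
      conv_lhs => rw [S.eq_of_coords hij hik hjk (h.1 P), hi0, hj0, zero_smul, zero_smul, zero_add, zero_add]
    set l := e.repr (h.1 P) k with hl
    have hl0 : l ≠ 0 := fun e0 => by
      rw [e0, zero_smul, LinearEquiv.map_eq_zero_iff] at hPk
      rw [hPk] at hPP
      simp at hPP
      exact h2 hPP.symm
    have hPh : P = l • (h⁻¹ : isomGroup B).1 (e k) := by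
      rw [← map_smul, ← hPk]
      exact (h.1.symm_apply_apply P).symm
    have hc0 : e.repr ((h⁻¹ : isomGroup B).1 (e k)) c = 0 := by
      have h1 := congrArg (fun x => e.repr x c) hPh
      simp [hP, S.repr_basis, hca, hcb, Finsupp.single_apply, hca.symm, hcb.symm] at h1
      exact h1.resolve_left hl0
    by_cases hm : Mono e h⁻¹
    · have h1 := Finset.card_le_card (show ({a, b} : Finset (Fin 3)) ⊆ supp e P by
        simp [Finset.insert_subset_iff, mem_supp, hP, S.repr_basis, hab, hab.symm, norm_ne_zero_of hθ,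
          Finsupp.single_apply])
      rw [Finset.card_pair hab, hPh, supp_smul hl0] at h1
      have := hm.card_le k
      omega
    · exact S.no_zero hL h6 (M.inv_mem hhM) hm k c hc0
  · -- a common central involution
    have hzk : z.1 (e k) = e.repr (z.1 (e k)) k • e k := by
      have h1 : s.1 (z.1 (e k)) = z.1 (e k) := by
        change (s * z).1 (e k) = _
        rw [← hzs]
        change z.1 (s.1 (e k)) = _
        rw [hsk]
      obtain ⟨-, h3, h4⟩ := hs (z.1 (e k))
      rw [h1] at h3 h4
      have hi0 : e.repr (z.1 (e k)) i = 0 := mul_left_cancel₀ h2 (by linear_combination h3)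
      have hj0 : e.repr (z.1 (e k)) j = 0 := mul_left_cancel₀ h2 (by linear_combination h4)
      conv_lhs => rw [S.eq_of_coords hij hik hjk (z.1 (e k)), hi0, hj0, zero_smul, zero_smul, zero_add, zero_add]
    have hzm : Mono e z := hL z hzM k _ hzk
    -- it fixes the line of `Y`
    obtain ⟨ε, hzY⟩ : ∃ ε : F, z.1 Y = ε • Y := by
      have h1 : w'.1 (z.1 Y) = z.1 Y := by
        change (w' * z).1 Y = _
        rw [← hzw]
        change z.1 (w'.1 Y) = _
        rw [hw'x, hYY, two_smul, add_sub_cancel_right]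
      rw [hw'x, sub_eq_iff_eq_add, ← two_smul F (z.1 Y)] at h1
      exact ⟨2⁻¹ * B Y (z.1 Y), by rw [mul_smul, h1, smul_smul, inv_mul_cancel₀ h2, one_smul]⟩
    obtain ⟨π, d, hd, hπ⟩ := S.mono_data hzm
    have hYc : ∀ x, d x * e.repr Y x = ε * e.repr Y (π x) := fun x => by
      rw [← FSetting.repr_mono π d hπ Y x, hzY, map_smul, Finsupp.smul_apply, smul_eq_mul]
    have hπk : π k = k := by
      by_contra hne
      have h1 := congrArg (fun x => e.repr x (π k)) ((hπ k).symm.trans hzk)
      simp [S.repr_basis, hne, Finsupp.single_apply, Ne.symm hne] at h1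
      exact norm_ne_zero_of (hd k) h1
    have hzz : ∀ x, π (π x) = x ∧ d (π x) * d x = 1 := fun x => by
      have h1 : z.1 (z.1 (e x)) = e x := by
        change (z * z).1 (e x) = e x
        rw [hz2]; rfl
      rw [hπ, map_smul, hπ, smul_smul] at h1
      have h3 := congrArg (fun v => e.repr v (π (π x))) h1
      simp [S.repr_basis, Finsupp.single_apply] at h3
      by_cases hx : π (π x) = x
      · rw [hx] at h3
        exact ⟨hx, by simp at h3; linear_combination h3⟩
      · simp [hx, Ne.symm hx] at h3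
        rcases h3 with h3 | h3
        · exact absurd h3 (norm_ne_zero_of (hd _))
        · exact absurd h3 (norm_ne_zero_of (hd _))
    have hzd : idet B z = 1 := S.idet_eq_one hzM
    have hkk := hYc k
    rw [hπk] at hkk
    have hdk : d k = ε := mul_right_cancel₀ (hfull k) hkk
    rcases cases_three hij hik hjk (π i) with hπi | hπi | hπi
    · -- diagonal: scalar, impossible
      exfalso
      have hπj : π j = j := by
        rcases cases_three hij hik hjk (π j) with h | h | h
        · exact absurd (π.injective (h.trans hπi.symm)) hij.symm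
        · exact h
        · exact absurd (π.injective (h.trans hπk.symm)) hjk
      have hπ1 : ∀ x, π x = x := fun x => by
        rcases cases_three hij hik hjk x with rfl | rfl | rfl <;> assumption
      have hdε : ∀ x, d x = ε := fun x => by
        have := hYc x
        rw [hπ1] at this
        exact mul_right_cancel₀ (hfull x) this
      have hεε : ε * ε = 1 := by
        have := (hzz k).2
        rwa [hπ1, hdε] at this
      have hdet := S.diag_det (g := z) (d := fun _ => ε) fun x => by rw [hπ, hπ1, hdε]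
      rw [hzd, Fin.prod_univ_three] at hdet
      have hε1 : ε = 1 := by linear_combination -hdet - ε * hεε
      exact hz1 (S.isom_ext fun x => by rw [hπ, hπ1, hdε, hε1, one_smul]; rfl)
    · -- a transposition
      have hπj : π j = i := by rw [← hπi]; exact (hzz i).1
      have hdij : d j * d i = 1 := by
        have := (hzz i).2
        rwa [hπi] at this
      obtain ⟨w₀, hw₀M, -, hwi, hwj, hwk, -⟩ := S.exists_swap_inv hij hik hjk (θ := d i) (hd i)
      have hσd : σ (d i) = d j := by
        refine mul_left_cancel₀ (norm_ne_zero_of (hd i)) ?_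
        rw [hd i]; linear_combination -hdij
      have hdiag : ∀ x, (z * w₀).1 (e x) = (if x = k then -d k else 1) • e x := fun x => by
        change z.1 (w₀.1 (e x)) = _
        rcases cases_three hij hik hjk x with rfl | rfl | rfl
        · rw [hwi, map_smul, hπ, hπj, smul_smul, if_neg hik, mul_comm, hdij]
        · rw [hwj, map_smul, hπ, hπi, smul_smul, if_neg hjk, hσd, hdij]
        · rw [hwk, map_neg, hπ, hπk, if_pos rfl, neg_smul]
      have hdet := S.diag_det hdiag
      rw [map_mul, hzd, one_mul, prod_three hij hik hjk] at hdet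
      simp [hik, hjk] at hdet
      have hw0d : idet B w₀ = 1 := S.idet_eq_one hw₀M
      rw [hw0d] at hdet
      have hε : ε = -1 := by rw [← hdk]; linear_combination hdet
      have h1 := hYc i
      rw [hπi, hε] at h1
      have h3 := congrArg σ h1
      rw [map_mul, map_mul, map_neg, map_one] at h3
      have := hd i
      linear_combination (σ (d i) * σ (e.repr Y i)) * h1 + (-(e.repr Y j)) * h3 - (σ (e.repr Y i) * e.repr Y i) * this
    · exact absurd (π.injective (hπi.trans hπk.symm)) hik

/-- No nonmonomial element in odd characteristic. -/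
theorem mono_of_no_fix_odd (h2 : (2 : F) ≠ 0) (h5 : (fixS σ).card ≠ 5) {g : isomGroup B} (hg : g ∈ M) :
    Mono e g := by
  by_contra hgm
  obtain ⟨T, hT, hcard⟩ := S.exists_full_phases hL h6 hg hgm (a := 0) (b := 1)
  have hq : (circ σ).card = (fixS σ).card + 1 := card_circ S.conj
  have h3q : 3 ≤ (fixS σ).card := by
    obtain ⟨t, ht, ht0, ht1⟩ := S.big
    refine le_trans (Finset.card_eq_three.2 ⟨0, 1, t, zero_ne_one, Ne.symm ht0, Ne.symm ht1, rfl⟩).ge
      (Finset.card_le_card ?_)
    simp [Finset.insert_subset_iff, ht]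
  have hlen : ∀ θ ∈ T, 3 * (σ (e.repr (g.1 (e 0 + θ • e 1)) 0) * e.repr (g.1 (e 0 + θ • e 1)) 0) = 2 := by
    intro θ hθ
    obtain ⟨hθ1, hf⟩ := hT θ hθ
    have h01 := S.norms_equal hL h6 h2 hg hgm (a := 0) (b := 1) (by decide) hθ1 hf (i := 0) (j := 1) (k := 2)
      (by decide) (by decide) (by decide)
    have h02 := S.norms_equal hL h6 h2 hg hgm (a := 0) (b := 1) (by decide) hθ1 hf (i := 0) (j := 2) (k := 1)
      (by decide) (by decide) (by decide)
    have hPP : B (g.1 (e 0 + θ • e 1)) (g.1 (e 0 + θ • e 1)) = 2 := by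
      rw [isomGroup_apply, S.form_three (i := 0) (j := 1) (k := 2) (by decide) (by decide) (by decide)]
      simp [S.repr_basis, Finsupp.single_apply]
      linear_combination hθ1
    rw [S.form_three (i := 0) (j := 1) (k := 2) (by decide) (by decide) (by decide)] at hPP
    linear_combination hPP + h01 + h02
  obtain ⟨θ₀, hθ₀⟩ : T.Nonempty := Finset.card_pos.1 (by omega)
  by_cases h3 : (3 : F) = 0
  · have := hlen θ₀ hθ₀
    rw [h3, zero_mul] at this
    exact h2 this.symm
  -- a quadratic equation for the phase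
  have hle : T.card ≤ 2 := by
    set x := e.repr (g.1 (e 0)) 0 with hx
    set y := e.repr (g.1 (e 1)) 0 with hy
    have hx0 : x ≠ 0 := S.no_zero hL h6 hg hgm 0 0
    have hy0 : y ≠ 0 := S.no_zero hL h6 hg hgm 1 0
    have hσx : σ x ≠ 0 := fun e' => hx0 (S.sigma_eq_zero e')
    have heq : ∀ θ ∈ T, θ * σ θ = 1 ∧ 3 * (σ x * x + σ y * y) - 2 + 3 * (θ * σ x * y + σ θ * σ y * x) = 0 := by
      intro θ hθ
      refine ⟨(hT θ hθ).1, ?_⟩
      have h := hlen θ hθ
      simp only [map_add, map_smul, Finsupp.add_apply, Finsupp.smul_apply, smul_eq_mul, map_mul, ← hx, ← hy] at h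
      linear_combination h - (3 * (σ y * y)) * (hT θ hθ).1
    refine le_trans (Finset.card_le_card (t := {θ₀, σ y * x / (θ₀ * (σ x * y))}) fun θ hθ => ?_) Finset.card_le_two
    obtain ⟨hθ1, h1⟩ := heq θ hθ
    obtain ⟨hθ01, h01⟩ := heq θ₀ hθ₀
    have hd : θ * σ x * y + σ θ * σ y * x = θ₀ * σ x * y + σ θ₀ * σ y * x :=
      mul_left_cancel₀ h3 (by linear_combination h1 - h01)
    have h4 : (θ - θ₀) * (θ * θ₀ * (σ x * y) - σ y * x) = 0 := by
      linear_combination (θ * θ₀) * hd - (θ₀ * σ y * x) * hθ1 + (θ * σ y * x) * hθ01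
    simp only [Finset.mem_insert, Finset.mem_singleton]
    refine (mul_eq_zero.1 h4).imp sub_eq_zero.1 fun h5 => ?_
    have := norm_ne_zero_of hθ01
    field_simp
    linear_combination h5
  have hq4 : (fixS σ).card = 3 ∨ (fixS σ).card = 4 := by omega
  rcases hq4 with hq3 | hq4
  · refine h3 ?_
    have h := FiniteField.cast_card_eq_zero F
    rw [card_fix_sq S.conj, hq3] at h
    have h9 : (3 : F) * 3 = 0 := by
      have e' : ((3 ^ 2 : ℕ) : F) = 3 * 3 := by norm_num
      rw [← e']; exact h
    exact mul_self_eq_zero.1 h9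
  · refine h2 ?_
    have h := FiniteField.cast_card_eq_zero F
    rw [card_fix_sq S.conj, hq4] at h
    have h16 : ((2 : F) * 2) * (2 * 2) = 0 := by
      have e' : ((4 ^ 2 : ℕ) : F) = (2 * 2) * (2 * 2) := by norm_num
      rw [← e']; exact h
    exact mul_self_eq_zero.1 (mul_self_eq_zero.1 h16)

end TSetting

end CfsgLib.Classical.GeoThree.SU
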